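import Mathlib

/-! The value of the coboundary lies in the group of values. -/

set_option autoImplicit false
universe u

namespace Groth.Agent.H66.Conj

open Polynomial

noncomputable section

theorem mem_of_nsmul_mem_of_finite {k : Type u} [Field k] (Γ : AddSubgroup k) (hfin : (Γ : Set k).Finite) {m : ℕ}
    (hm : (m : k) ≠ 0) {d : k} (h : (m : k) * d ∈ Γ) : d ∈ Γ := by
  obtain ⟨p, hp⟩ := CharP.exists k
  rcases Nat.eq_zero_or_pos p with rfl | hpos
  · haveI : CharZero k := CharP.charP_to_charZero k
    by_contra hd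
    have hne : (m : k) * d ≠ 0 := mul_ne_zero hm fun h0 => hd (h0 ▸ Γ.zero_mem)
    refine hfin.not_infinite (Set.infinite_of_injective_forall_mem (f := fun n : ℕ => n • ((m : k) * d))
      (fun a b hab => ?_) fun n => Γ.nsmul_mem h n)
    simp only [nsmul_eq_mul] at hab
    exact Nat.cast_injective (mul_right_cancel₀ hne hab)
  · haveI : Fact p.Prime := ⟨(CharP.char_is_prime_or_zero k p).resolve_right hpos.ne'⟩
    have hz : (m : ZMod p) ≠ 0 := fun h0 => hm <| by
      exact (CharP.cast_eq_zero_iff k p m).2 ((CharP.cast_eq_zero_iff (ZMod p) p m).1 h0)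
    obtain ⟨n, hn⟩ : ∃ n : ℕ, ((n * m : ℕ) : ZMod p) = 1 := by
      refine ⟨((m : ZMod p)⁻¹).val, ?_⟩
      rw [Nat.cast_mul, ZMod.natCast_zmod_val, inv_mul_cancel₀ hz]
    have hk : ((n * m : ℕ) : k) = 1 := by
      have h' : ((n * m : ℕ) : ZMod p) = ((1 : ℕ) : ZMod p) := by rw [hn, Nat.cast_one]
      rw [ZMod.natCast_eq_natCast_iff] at h'
      rw [← Nat.cast_one (R := k)]
      exact (CharP.natCast_eq_natCast k p).2 h'
    have h2 := Γ.nsmul_mem h n
    rwa [nsmul_eq_mul, ← mul_assoc, ← Nat.cast_mul, hk, one_mul] at h2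

theorem aeval_single_eq {k : Type u} [Field k] {M : Type u} [CommGroup M] (g : M) (Q : k[X]) :
    aeval (MonoidAlgebra.single g (1 : k)) Q = Q.sum fun i a => MonoidAlgebra.single (g ^ i) a := by
  rw [aeval_def, eval₂_eq_sum]
  refine Finset.sum_congr rfl fun i _ => ?_
  simp only []
  rw [MonoidAlgebra.single_pow, one_pow, ← Algebra.smul_def, MonoidAlgebra.smul_single, smul_eq_mul, mul_one]

theorem eq_zero_of_aeval_single {k : Type u} [Field k] {M : Type u} [CommGroup M] {g : M} {Q : k[X]}
    (hinj : ∀ i ∈ Q.support, ∀ j ∈ Q.support, g ^ i = g ^ j → i = j)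
    (h : aeval (MonoidAlgebra.single g (1 : k)) Q = 0) : Q = 0 := by
  classical
  rw [aeval_single_eq] at h
  ext i
  rw [coeff_zero]
  by_contra hi
  have h2 := congrArg (fun z => (MonoidAlgebra.basis M k).repr z (g ^ i)) h
  simp only [Polynomial.sum, map_sum, map_zero, Finsupp.coe_finsetSum, Finset.sum_apply, Finsupp.coe_zero,
    Pi.zero_apply] at h2
  rw [Finset.sum_eq_single i (fun j hj hne => ?_) (fun hn => absurd (mem_support_iff.2 hi) hn)] at h2
  · rw [show MonoidAlgebra.single (g ^ i) (Q.coeff i) = Q.coeff i • MonoidAlgebra.basis M k (g ^ i) by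
      rw [MonoidAlgebra.basis_apply, MonoidAlgebra.smul_single, smul_eq_mul, mul_one], map_smul,
      Module.Basis.repr_self, Finsupp.smul_apply, Finsupp.single_eq_same, smul_eq_mul, mul_one] at h2
    exact hi h2
  · rw [show MonoidAlgebra.single (g ^ j) (Q.coeff j) = Q.coeff j • MonoidAlgebra.basis M k (g ^ j) by
      rw [MonoidAlgebra.basis_apply, MonoidAlgebra.smul_single, smul_eq_mul, mul_one], map_smul,
      Module.Basis.repr_self, Finsupp.smul_apply, Finsupp.single_eq_of_ne, smul_zero]
    exact fun he => hne (hinj j hj i (mem_support_iff.2 hi) he.symm)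

theorem mem_values {k : Type u} [Field k] [IsAlgClosed k] {M : Type u} [CommGroup M] {g : M} (hg : g ≠ 1)
    {U : Type u} [CommRing U] [Algebra k U] (y : U) (Γ : AddSubgroup k)
    (hΓ : ∀ c, c ∈ Γ ↔ ∀ R : k[X], aeval y R = 0 → R.eval c = 0)
    (hred : IsReduced (MonoidAlgebra k M) ∨ IsReduced U)
    (f : U →ₐ[k] MonoidAlgebra k M) (d : k) (hf : f y = d • (1 - MonoidAlgebra.single g 1)) : d ∈ Γ := by
  classical
  by_cases hinj : ∀ R : k[X], aeval y R = 0 → R = 0
  · exact (hΓ d).2 fun R hR => by rw [hinj R hR, eval_zero]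
  push_neg at hinj
  obtain ⟨R₀, hR₀, hR₀0⟩ := hinj
  haveI : Nontrivial U := by
    by_contra hn
    rw [not_nontrivial_iff_subsingleton] at hn
    have := (hΓ 0).1 Γ.zero_mem 1 (Subsingleton.elim _ _)
    rw [eval_one] at this
    exact one_ne_zero this
  have hy : IsIntegral k y := by
    refine ⟨R₀ * Polynomial.C R₀.leadingCoeff⁻¹, Polynomial.monic_mul_leadingCoeff_inv hR₀0, ?_⟩
    rw [eval₂_mul, ← aeval_def, hR₀, zero_mul]
  let R := minpoly k y
  have hR0 : R ≠ 0 := minpoly.ne_zero hy
  have hΓR : ∀ c, c ∈ Γ ↔ R.eval c = 0 := fun c => by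
    refine ⟨fun hc => (hΓ c).1 hc R (minpoly.aeval k y), fun hc => (hΓ c).2 fun Q hQ => ?_⟩
    obtain ⟨S, hS⟩ := minpoly.dvd k y hQ
    rw [hS, eval_mul, show eval c (minpoly k y) = 0 from hc, zero_mul]
  have hfin : (Γ : Set k).Finite := by
    refine Set.Finite.subset R.roots.toFinset.finite_toSet fun c hc => ?_
    rw [Finset.mem_coe, Multiset.mem_toFinset, mem_roots hR0]
    exact (hΓR c).1 hc
  let Q : k[X] := R.comp (Polynomial.C d * (1 - Polynomial.X))
  let G : MonoidAlgebra k M := MonoidAlgebra.single g 1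
  have hQ : aeval G Q = 0 := by
    simp only [Q, aeval_comp, map_mul, map_sub, map_one, aeval_C, aeval_X]
    rw [← Algebra.smul_def, ← hf, aeval_algHom_apply, minpoly.aeval, map_zero]
  have hev : ∀ ζ : k, Q.eval ζ = R.eval (d * (1 - ζ)) := fun ζ => by simp [Q]
  by_cases hd0 : d = 0
  · rw [hd0]; exact Γ.zero_mem
  by_cases hfo : IsOfFinOrder g
  · set m := orderOf g with hm
    have hmpos : 0 < m := hfo.orderOf_pos
    have hmon : (Polynomial.X ^ m - 1 : k[X]).Monic := monic_X_pow_sub (by simpa using Nat.zero_lt_of_lt hmpos) 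
    have hmod : Q %ₘ (Polynomial.X ^ m - 1) = 0 := by
      refine eq_zero_of_aeval_single (g := g) (fun i hi j hj he => ?_) ?_
      · have hdeg : ∀ i ∈ (Q %ₘ (Polynomial.X ^ m - 1)).support, i < m := fun i hi => by
          have h1 := le_degree_of_mem_supp i hi
          have h2 := degree_modByMonic_lt Q hmon
          rw [← map_one Polynomial.C, degree_X_pow_sub_C hmpos] at h2
          exact Nat.cast_lt.1 (lt_of_le_of_lt h1 h2)
        exact pow_injOn_Iio_orderOf (Set.mem_Iio.2 (hdeg i hi)) (Set.mem_Iio.2 (hdeg j hj)) he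
      · have h := congrArg (aeval G) (modByMonic_add_div Q (Polynomial.X ^ m - 1))
        rw [map_add, map_mul, hQ, map_sub, map_pow, aeval_X, map_one, MonoidAlgebra.single_pow, one_pow,
          hm, pow_orderOf_eq_one, ← MonoidAlgebra.one_def, sub_self, zero_mul, add_zero] at h
        exact h
    obtain ⟨H, hH⟩ : (Polynomial.X ^ m - 1 : k[X]) ∣ Q := (modByMonic_eq_zero_iff_dvd hmon).1 hmod
    by_cases hmk : (m : k) = 0
    · exfalso
      -- the value is a simple root
      have hne : ¬ IsReduced (MonoidAlgebra k M) := by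
        intro hr
        obtain ⟨p, hp⟩ := CharP.exists k
        have hpm : p ∣ m := (CharP.cast_eq_zero_iff k p m).1 hmk
        have hp0 : p ≠ 0 := fun h => by rw [h, zero_dvd_iff] at hpm; omega
        haveI : Fact p.Prime := ⟨(CharP.char_is_prime_or_zero k p).resolve_right hp0⟩
        haveI : CharP (MonoidAlgebra k M) p :=
          charP_of_injective_algebraMap (algebraMap k (MonoidAlgebra k M)).injective p
        obtain ⟨n, hn⟩ := hpm
        have h1 : ((MonoidAlgebra.single (g ^ n) 1 : MonoidAlgebra k M) - 1) ^ p = 0 := by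
          rw [sub_pow_char, one_pow, MonoidAlgebra.single_pow, one_pow, ← pow_mul, mul_comm n p, ← hn, hm,
            pow_orderOf_eq_one, ← MonoidAlgebra.one_def, sub_self]
        have h2 := IsReduced.eq_zero _ ⟨p, h1⟩
        rw [sub_eq_zero, MonoidAlgebra.one_def] at h2
        have h3 : g ^ n = 1 := by
          have := congrArg (fun z => (MonoidAlgebra.basis M k).repr z (g ^ n)) h2
          simp only [← MonoidAlgebra.basis_apply, Module.Basis.repr_self, Finsupp.single_eq_same,
            Finsupp.single_apply] at this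
          by_contra hne
          rw [if_neg (Ne.symm hne)] at this
          exact one_ne_zero this
        have h4 := Nat.le_of_dvd (by rcases Nat.eq_zero_or_pos n with h | h <;> [(rw [h, mul_zero] at hn; omega); exact h])
          (orderOf_dvd_of_pow_eq_one h3)
        have h5 : 2 ≤ p := (Fact.out : p.Prime).two_le
        rw [← hm, hn] at h4
        nlinarith
      have hU : IsReduced U := hred.resolve_left hne
      have hRr : R.eval 0 = 0 := (hΓR 0).1 Γ.zero_mem
      have hR1 : (derivative R).eval 0 ≠ 0 := by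
        intro h1
        have hX2 : Polynomial.X ^ 2 ∣ R := by
          rw [X_pow_dvd_iff]
          intro i hi
          interval_cases i
          · rw [coeff_zero_eq_eval_zero, hRr]
          · have e := coeff_derivative R 0
            rw [coeff_zero_eq_eval_zero, h1] at e
            simpa using e.symm
        obtain ⟨S, hS⟩ := hX2
        have hz : aeval y (Polynomial.X * S) = 0 := by
          refine IsReduced.eq_zero _ ⟨2, ?_⟩
          have h0 : aeval y R = 0 := minpoly.aeval k y
          rw [hS, map_mul, map_pow, aeval_X] at h0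
          rw [map_mul, aeval_X]
          calc (y * aeval y S) ^ 2 = (y ^ 2 * aeval y S) * aeval y S := by ring
            _ = 0 := by rw [h0, zero_mul]
        have hle := natDegree_le_of_dvd (minpoly.dvd k y hz) (mul_ne_zero X_ne_zero fun hS0 => hR0 (by rw [hS, hS0, mul_zero]))
        have hS0 : S ≠ 0 := fun hS0 => hR0 (by rw [hS, hS0, mul_zero])
        rw [natDegree_X_mul hS0] at hle
        have h2 : R.natDegree = S.natDegree + 2 := by
          rw [hS, natDegree_mul (pow_ne_zero 2 X_ne_zero) hS0, natDegree_X_pow, add_comm]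
        change R.natDegree ≤ _ at hle
        omega
      have hder : (derivative Q).eval 1 = -(d * (derivative R).eval 0) := by
        simp [Q, derivative_comp, mul_comm]
      have hder2 : (derivative Q).eval 1 = 0 := by
        rw [hH]
        simp [derivative_mul, derivative_X_pow, hmk]
      rw [hder2, eq_comm, neg_eq_zero, mul_eq_zero] at hder
      exact hder.elim hd0 hR1
    · haveI : NeZero (m : k) := ⟨hmk⟩
      have hroots : ∀ ζ : k, ζ ^ m = 1 → d * (1 - ζ) ∈ Γ := fun ζ hζ => by
        rw [hΓR, ← hev, hH, eval_mul, eval_sub, eval_pow, eval_X, eval_one, hζ, sub_self, zero_mul]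
      haveI : NeZero m := ⟨hmpos.ne'⟩
      obtain ⟨ζ, hζ⟩ := HasEnoughRootsOfUnity.exists_primitiveRoot k m
      have hm1 : 1 < m := by
        rcases Nat.lt_or_ge 1 m with h | h
        · exact h
        · exact absurd (orderOf_eq_one_iff.1 (le_antisymm (hm ▸ h) (hm ▸ hmpos))) hg
      have hsum : ∑ i ∈ Finset.range m, d * (1 - ζ ^ i) = (m : k) * d := by
        rw [← Finset.mul_sum, Finset.sum_sub_distrib, hζ.geom_sum_eq_zero hm1, sub_zero, Finset.sum_const,
          Finset.card_range, nsmul_eq_mul, mul_one, mul_comm]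
      refine mem_of_nsmul_mem_of_finite Γ hfin hmk (hsum ▸ Γ.sum_mem fun i _ => hroots _ ?_)
      rw [← pow_mul, mul_comm, pow_mul, hζ.pow_eq_one, one_pow]
  · exfalso
    have hQ0 : Q = 0 := eq_zero_of_aeval_single
      (fun i _ j _ he => (injective_pow_iff_not_isOfFinOrder.2 hfo) he) hQ
    have hd : (Polynomial.C d * (1 - Polynomial.X)).natDegree = 1 := by
      rw [natDegree_C_mul hd0, ← neg_sub, natDegree_neg, ← map_one Polynomial.C, natDegree_X_sub_C]
    have h := natDegree_comp (p := R) (q := Polynomial.C d * (1 - Polynomial.X))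
    rw [hd, mul_one, show R.comp (Polynomial.C d * (1 - Polynomial.X)) = 0 from hQ0, natDegree_zero] at h
    have hp := minpoly.natDegree_pos hy (A := k) (B := U)
    · exact hp.ne h

end

end Groth.Agent.H66.Conj
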