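import Groth.Agent.H66.MultExt.Central
import Groth.Agent.H66.ExactSeq
import Mathlib

/-! Hopf ideals under quotient maps. -/

set_option autoImplicit false
set_option linter.unusedSectionVars false
set_option linter.style.haveILetI false
universe u

namespace Groth.Agent.H66.Conj

open TensorProduct WithConv Groth.Agent.H66.MultExt

noncomputable section

variable {k : Type u} [Field k] {A : Type u} [CommRing A] [HopfAlgebra k A]

/-- The image of a Hopf ideal under a quotient map is a Hopf ideal. -/
theorem isHopfIdeal_map_quotient (K : Ideal A) [K.IsHopfIdeal k] (J : Ideal A) [J.IsHopfIdeal k] :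
    (J.map (Ideal.Quotient.mk K)).IsHopfIdeal k := by
  let I' : Ideal (A ⧸ K) := J.map (Ideal.Quotient.mk K)
  let π : A →ₐc[k] A ⧸ K := Bialgebra.Quotient.mkBialgHom (R := k) K
  let qI : A ⧸ K →ₐ[k] (A ⧸ K) ⧸ I' := Ideal.Quotient.mkₐ k I'
  have hqJ : ∀ x ∈ J, qI (π x) = 0 := fun x hx => Ideal.Quotient.eq_zero_iff_mem.2 (Ideal.mem_map_of_mem _ hx)
  let qq : A ⧸ J.restrictScalars k →ₗ[k] (A ⧸ K) ⧸ I' :=
    Submodule.liftQ _ (qI.toLinearMap ∘ₗ (π : A →ₐ[k] A ⧸ K).toLinearMap) fun x hx => hqJ x hx
  haveI : (I'.restrictScalars k).IsCoideal := by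
    refine Submodule.IsCoideal.mk (fun x hx => ?_) fun x hx => ?_
    · have : I' ≤ RingHom.ker (Bialgebra.counitAlgHom k (A ⧸ K)) := by
        refine Ideal.map_le_iff_le_comap.2 fun a ha => ?_
        show CoalgebraStruct.counit (R := k) (π a) = 0
        rw [CoalgHomClass.counit_comp_apply]
        exact Submodule.IsCoideal.counit_eq_zero (I := J.restrictScalars k) ha
      exact this hx
    · rw [show (Submodule.restrictScalars k I').mkQ = qI.toLinearMap from rfl]
      change (Algebra.TensorProduct.map qI qI).comp (Bialgebra.comulAlgHom k (A ⧸ K)) x = 0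
      have : I' ≤ RingHom.ker ((Algebra.TensorProduct.map qI qI).comp (Bialgebra.comulAlgHom k (A ⧸ K))) := by
        refine Ideal.map_le_iff_le_comap.2 fun a ha => ?_
        show Algebra.TensorProduct.map qI qI (CoalgebraStruct.comul (R := k) (π a)) = 0
        rw [← CoalgHomClass.map_comp_comul_apply π a]
        have h0 := (congrArg (TensorProduct.map qq qq)
          (Submodule.IsCoideal.map_mkQ_comul_eq_zero (R := k) (I := J.restrictScalars k) ha)).trans
            (LinearMap.map_zero _)
        refine Eq.trans ?_ h0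
        generalize CoalgebraStruct.comul (R := k) a = w
        induction w using TensorProduct.induction_on with
        | zero => simp
        | add p q hp hq => simp only [map_add, hp, hq]
        | tmul p q => rfl
      exact this hx
  refine Ideal.IsHopfIdeal.mk fun x hx => ?_
  have : I' ≤ I'.comap (HopfAlgebra.antipodeAlgHom k (A ⧸ K)) := by
    refine Ideal.map_le_iff_le_comap.2 fun a ha => ?_
    show HopfAlgebraStruct.antipode (R := k) (Ideal.Quotient.mk K a) ∈ I'
    rw [HopfAlgebra.Quotient.antipode_mk]
    exact Ideal.mem_map_of_mem _ (Ideal.IsHopfIdeal.antipode_mem ha)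
  exact this hx

/-- The preimage of a Hopf ideal under a quotient map is a Hopf ideal. -/
theorem isHopfIdeal_comap_quotient (K : Ideal A) [K.IsHopfIdeal k] (I : Ideal (A ⧸ K)) [I.IsHopfIdeal k] :
    (I.comap (Ideal.Quotient.mk K)).IsHopfIdeal k := by
  let π : A →ₐc[k] A ⧸ K := Bialgebra.Quotient.mkBialgHom (R := k) K
  haveI : ((I.comap (Ideal.Quotient.mk K)).restrictScalars k).IsCoideal := by
    refine Submodule.IsCoideal.mk (fun x hx => ?_) fun x hx => ?_
    · rw [← CoalgHomClass.counit_comp_apply π x]
      exact Submodule.IsCoideal.counit_eq_zero (I := I.restrictScalars k) hx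
    · let qI : A ⧸ K →ₐ[k] (A ⧸ K) ⧸ I := Ideal.Quotient.mkₐ k I
      let fb : A ⧸ (I.comap (Ideal.Quotient.mk K)).restrictScalars k →ₗ[k] (A ⧸ K) ⧸ I :=
        Submodule.liftQ _ (qI.toLinearMap ∘ₗ (π : A →ₐ[k] A ⧸ K).toLinearMap) fun a ha =>
          Ideal.Quotient.eq_zero_iff_mem.2 ha
      have hfb : Function.Injective fb := by
        refine LinearMap.ker_eq_bot.1 (LinearMap.ker_eq_bot'.2 fun y hy => ?_)
        obtain ⟨a, rfl⟩ := Submodule.Quotient.mk_surjective _ y
        exact (Submodule.Quotient.mk_eq_zero _).2 (Ideal.Quotient.eq_zero_iff_mem.1 hy :)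
      have hinj : Function.Injective (TensorProduct.map fb fb) := by
        rw [← LinearMap.rTensor_comp_lTensor, LinearMap.coe_comp]
        exact (Module.Flat.rTensor_preserves_injective_linearMap _ hfb).comp
          (Module.Flat.lTensor_preserves_injective_linearMap _ hfb)
      refine hinj ?_
      rw [map_zero]
      have h0 : Algebra.TensorProduct.map qI qI (CoalgebraStruct.comul (R := k) (π x)) = 0 :=
        Submodule.IsCoideal.map_mkQ_comul_eq_zero (I := I.restrictScalars k) hx
      rw [← CoalgHomClass.map_comp_comul_apply π x] at h0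
      refine Eq.trans ?_ h0
      generalize CoalgebraStruct.comul (R := k) x = w
      induction w using TensorProduct.induction_on with
      | zero => simp
      | add p q hp hq => simp only [map_add, hp, hq]
      | tmul p q => rfl
  exact Ideal.IsHopfIdeal.mk fun x hx => by
    show Ideal.Quotient.mk K (HopfAlgebraStruct.antipode (R := k) x) ∈ I
    rw [← HopfAlgebra.Quotient.antipode_mk]
    exact Ideal.IsHopfIdeal.antipode_mem hx

/-- A bialgebra map killing a Hopf ideal descends. -/
theorem exists_lift {B : Type u} [CommRing B] [HopfAlgebra k B] (K : Ideal A) [K.IsHopfIdeal k] (f : A →ₐc[k] B)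
    (hf : ∀ a ∈ K, f a = 0) : ∃ g : A ⧸ K →ₐc[k] B, ∀ a, g (Ideal.Quotient.mk K a) = f a := by
  refine ⟨BialgHom.ofAlgHom
    (Ideal.Quotient.liftₐ K (f : A →ₐ[k] B) hf)
    (Ideal.Quotient.algHom_ext k (AlgHom.ext fun a => CoalgHomClass.counit_comp_apply f a))
    (Ideal.Quotient.algHom_ext k (AlgHom.ext fun a => by
      refine Eq.trans ?_ (CoalgHomClass.map_comp_comul_apply f a)
      show Algebra.TensorProduct.map _ _ (CoalgebraStruct.comul (R := k) (Ideal.Quotient.mk K a)) = _
      rw [show CoalgebraStruct.comul (R := k) (Ideal.Quotient.mk K a) = _ from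
        (CoalgHomClass.map_comp_comul_apply (Bialgebra.Quotient.mkBialgHom (R := k) K) a).symm]
      generalize CoalgebraStruct.comul (R := k) a = w
      induction w using TensorProduct.induction_on with
      | zero => simp
      | add p q hp hq => simp only [map_add, hp, hq]
      | tmul p q => rfl)), fun a => rfl⟩

variable {B : Type u} [CommRing B] [HopfAlgebra k B]

/-- Conjugation of a homomorphism by a rational point is a homomorphism. -/
theorem exists_conj (u : Pt k A k) (r : A →ₐc[k] B) :
    ∃ r' : A →ₐc[k] B, toConv (r' : A →ₐ[k] B) = post (Algebra.ofId k B) u * toConv (r : A →ₐ[k] B) *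
      (post (Algebra.ofId k B) u)⁻¹ := by
  let U : Pt k A B := post (Algebra.ofId k B) u
  let T : Pt k A B := U * toConv (r : A →ₐ[k] B) * U⁻¹
  have hU : ∀ {R : Type u} [CommRing R] [Algebra k R] (h : B →ₐ[k] R), post h U = post (Algebra.ofId k R) u := by
    intro R _ _ h
    apply WithConv.ofConv_injective
    exact AlgHom.ext fun a => h.commutes _
  have hr : post (Bialgebra.counitAlgHom k B) (toConv (r : A →ₐ[k] B)) = 1 :=
    WithConv.ofConv_injective (AlgHom.ext fun a => CoalgHomClass.counit_comp_apply r a)
  have hε : post (Bialgebra.counitAlgHom k B) T = 1 := by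
    simp only [T, map_mul, post_inv, hr, mul_one, mul_inv_cancel]
  let i1 : B →ₐ[k] B ⊗[k] B := Algebra.TensorProduct.includeLeft
  let i2 : B →ₐ[k] B ⊗[k] B := Algebra.TensorProduct.includeRight
  have hΔ : post (Bialgebra.comulAlgHom k B) T = post (R' := B ⊗[k] B) i1 T * post (R' := B ⊗[k] B) i2 T := by
    have hΔr : post (Bialgebra.comulAlgHom k B) (toConv (r : A →ₐ[k] B)) =
        post (R' := B ⊗[k] B) i1 (toConv (r : A →ₐ[k] B)) * post (R' := B ⊗[k] B) i2 (toConv (r : A →ₐ[k] B)) := by
      have h := congrArg (pre r) (comul_eq_mul (k := k) B)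
      rw [map_mul] at h
      exact h
    simp only [T, map_mul, post_inv, hΔr, hU]
    group
  refine ⟨BialgHom.ofAlgHom T.ofConv (congrArg WithConv.ofConv hε :) (AlgHom.ext fun a => ?_), rfl⟩
  refine Eq.trans ?_ (congrArg (fun F : Pt k A (B ⊗[k] B) => F.ofConv a) hΔ).symm
  refine Eq.trans ?_ (AlgHom.convMul_apply _ _ a).symm
  show Algebra.TensorProduct.map T.ofConv T.ofConv (CoalgebraStruct.comul (R := k) a) = _
  induction CoalgebraStruct.comul (R := k) a using TensorProduct.induction_on with
  | zero => simp
  | add x y hx hy => simp only [map_add, hx, hy]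
  | tmul x y => simp [post, i1, i2]

end

end Groth.Agent.H66.Conj
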