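import Groth.Agent.H66.Conj.Prim
import Mathlib

/-! Reducedness of the kernels of additive functions on a reduced group. -/

set_option autoImplicit false
set_option linter.unusedSectionVars false
set_option linter.style.haveILetI false
universe u

namespace Groth.Agent.H66.Conj

open TensorProduct Groth.Agent.Lib.Comod.Basic

noncomputable section

variable {k : Type u} [Field k] {A : Type u} [CommRing A] [HopfAlgebra k A]

theorem isReduced_span_idempotent {R : Type u} [CommRing R] [IsReduced R] {e : R} (he : IsIdempotentElem e) :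
    IsReduced (R ⧸ Ideal.span {e}) := by
  refine (Ideal.isRadical_iff_quotient_reduced _).1 fun a ha => ?_
  obtain ⟨n, hn⟩ := ha
  obtain ⟨y, hy⟩ := Ideal.mem_span_singleton'.1 hn
  have h : (a * (1 - e)) ^ (n + 1) = 0 := by
    rw [mul_pow, he.one_sub.pow_succ_eq, pow_succ a n, ← hy]
    calc y * e * a * (1 - e) = y * a * (e * (1 - e)) := by ring
      _ = 0 := by rw [he.mul_one_sub_self, mul_zero]
  have h0 := IsReduced.eq_zero _ ⟨n + 1, h⟩
  refine Ideal.mem_span_singleton'.2 ⟨a, ?_⟩
  rw [mul_sub, mul_one, sub_eq_zero] at h0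
  exact h0.symm

theorem dact_comm_right (φ : A →ₗ[k] k) (ξ : A →ₗ[k] k) (c : A) :
    dact A φ (TensorProduct.lid k A (ξ.rTensor A (CoalgebraStruct.comul (R := k) c))) =
      TensorProduct.lid k A (ξ.rTensor A (CoalgebraStruct.comul (R := k) (dact A φ c))) := by
  have h := isComodHom_iff (k := k) (A := A) (V := A) (V' := A) (H66.Coeff.coeff (C := A) ξ : A →ₗ[k] A) |>.1
    (H66.Coeff.isComodHom_coeff (C := A) ξ) φ c
  exact h.symm

variable (p : ℕ) [Fact p.Prime] [CharP k p] [IsAlgClosed k] [Algebra.FiniteType k A]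

theorem exists_root_of_deriv_eq_zero {c : A} (hc : ∀ φ : A →ₗ[k] k, IsTangent φ → dact A φ c = 0) :
    ∃ e : A, e ^ p = c := by
  classical
  haveI := charP_alg' p k A
  haveI : CharP (A ⊗[k] A) p := by
    haveI : Nontrivial (A ⊗[k] A) := ⟨1, 0, fun h => by
      have h2 := congrArg (Algebra.TensorProduct.lift (Bialgebra.counitAlgHom k A) (Bialgebra.counitAlgHom k A)
        fun _ _ => Commute.all _ _) h
      rw [map_one, map_zero] at h2
      exact one_ne_zero h2⟩
    exact charP_of_injective_algebraMap (algebraMap k (A ⊗[k] A)).injective p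
  let S : Subalgebra k A := frobSub (k := k) p
  have h1 : ∀ b ∈ S, CoalgebraStruct.comul (R := k) b ∈
      LinearMap.range (TensorProduct.map S.val.toLinearMap S.val.toLinearMap) := by
    intro b hb
    obtain ⟨a, rfl⟩ := (mem_frobSub p).1 hb
    let T : Subalgebra k (A ⊗[k] A) := (Algebra.TensorProduct.map S.val S.val).range
    have hT : (CoalgebraStruct.comul (R := k) a) ^ p ∈ T := by
      induction CoalgebraStruct.comul (R := k) a using TensorProduct.induction_on with
      | zero => rw [zero_pow (Fact.out : p.Prime).ne_zero]; exact zero_mem _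
      | add x y hx hy => rw [add_pow_char]; exact add_mem hx hy
      | tmul x y =>
        exact ⟨(⟨x ^ p, (mem_frobSub p).2 ⟨x, rfl⟩⟩ : S) ⊗ₜ[k] (⟨y ^ p, (mem_frobSub p).2 ⟨y, rfl⟩⟩ : S), by simp⟩
    obtain ⟨w, hw⟩ := hT
    refine ⟨w, ?_⟩
    rw [Bialgebra.comul_pow]
    exact hw
  have h2 : ∀ b ∈ S, HopfAlgebraStruct.antipode (R := k) b ∈ S := by
    intro b hb
    obtain ⟨a, rfl⟩ := (mem_frobSub p).1 hb
    exact (mem_frobSub p).2 ⟨HopfAlgebraStruct.antipode (R := k) a,
      (map_pow (HopfAlgebra.antipodeAlgHom k A) a p).symm⟩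
  haveI := H66.ExactSeq.faithfullyFlat_subalgebra S h1 h2
  let I : Ideal A := frobIdeal (k := k) p
  have hmem : c ∈ S := by
    refine H66.ExactSeq.mem_of_coinvariant S h1 h2 (Ideal.Quotient.mkₐ k I) ?_ ?_
    · intro a ha
      have ha' : a ∈ I := Ideal.Quotient.eq_zero_iff_mem.1 ha
      refine (Ideal.span_mono ?_) ha'
      rintro _ ⟨b, hb, rfl⟩
      refine ⟨(mem_frobSub p).2 ⟨b, rfl⟩, ?_⟩
      rw [← Bialgebra.counitAlgHom_apply, map_pow, Bialgebra.counitAlgHom_apply, hb, zero_pow (Fact.out : p.Prime).ne_zero]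
    · rw [← sub_eq_zero]
      apply (TensorProduct.comm k A (A ⧸ I)).injective
      rw [map_zero]
      refine ext_contract fun ξ => ?_
      rw [map_zero]
      have e : ∀ w : A ⊗[k] A,
          contract (A ⧸ I) ξ (TensorProduct.comm k A (A ⧸ I) ((Ideal.Quotient.mkₐ k I).toLinearMap.lTensor A w)) =
            Ideal.Quotient.mk I (TensorProduct.lid k A (ξ.rTensor A w)) := by
        intro w
        induction w using TensorProduct.induction_on with
        | zero => simp
        | add x y hx hy => simp only [map_add, hx, hy]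
        | tmul x y => simp [Algebra.smul_def]
      rw [map_sub, map_sub, e, TensorProduct.comm_tmul, contract_tmul, ← Algebra.algebraMap_eq_smul_one,
        ← Ideal.Quotient.mk_algebraMap, ← map_sub, Ideal.Quotient.eq_zero_iff_mem]
      set cξ := TensorProduct.lid k A (ξ.rTensor A (CoalgebraStruct.comul (R := k) c)) with hcξ
      have hε : CoalgebraStruct.counit (R := k) cξ = ξ c := H66.Coeff.counit_coeff (C := A) (V := A) ξ c
      rw [← hε]
      refine sub_counit_mem_frobIdeal p fun φ hφ => ?_
      rw [hcξ, dact_comm_right, hc φ hφ, map_zero, map_zero, map_zero]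
  exact (mem_frobSub p).1 hmem

include p in
/-- The quotient by an additive function with nonzero differential is reduced. -/
theorem isReduced_of_deriv_ne_zero [IsReduced A] {y : A} (hy : IsAdd k y) {φ : A →ₗ[k] k} (hφ : IsTangent φ)
    (h1 : φ y = 1) : IsReduced (A ⧸ Ideal.span {y}) := by
  haveI := charP_alg' p k A
  have hD : dact A φ y = 1 := by rw [dact_add_fun hφ hy, h1, map_one]
  have hnz : ∀ {c : A}, y * c = 0 → c = 0 := fun {c} hc => mul_eq_zero_of_add_fun hφ hy h1 hc
  have hnzp : ∀ n : ℕ, ∀ {c : A}, y ^ n * c = 0 → c = 0 := by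
    intro n
    induction n with
    | zero => intro c hc; rwa [pow_zero, one_mul] at hc
    | succ n ih => intro c hc; rw [pow_succ, mul_assoc] at hc; exact hnz (ih hc)
  have key : ∀ a : A, a ^ p ∈ Ideal.span {y} → a ∈ Ideal.span {y} := by
    intro a ha
    have hm : ∀ m, 1 ≤ m → m ≤ p → ∃ c, a ^ p = y ^ m * c := by
      intro m hm
      induction m, hm using Nat.le_induction with
      | base =>
        intro _
        obtain ⟨c, hc⟩ := Ideal.mem_span_singleton'.1 ha
        exact ⟨c, by rw [pow_one, mul_comm, hc]⟩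
      | succ m hm1 ih =>
        intro hmp
        obtain ⟨c, hc⟩ := ih (Nat.le_of_succ_le hmp)
        have h := congrArg (dact A φ) hc
        rw [dact_tangent_mul hφ, dact_pow hφ, dact_pow hφ, CharP.cast_eq_zero, zero_mul, zero_mul, hD, mul_one] at h
        have h2 : y ^ (m - 1) * ((m : A) * c + y * dact A φ c) = 0 := by
          rw [h]
          have e : y ^ m = y ^ (m - 1) * y := by rw [← pow_succ, Nat.sub_add_cancel hm1]
          rw [e]; ring
        have h3 := hnzp _ h2
        have hu : IsUnit (m : A) := by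
          have : (m : k) ≠ 0 := fun h0 => by
            rw [CharP.cast_eq_zero_iff k p] at h0
            have := Nat.le_of_dvd (by omega) h0
            omega
          simpa using (isUnit_iff_ne_zero.2 this).map (algebraMap k A)
        obtain ⟨u, hu⟩ := hu
        refine ⟨-((↑u⁻¹ : A) * dact A φ c), ?_⟩
        rw [hc]
        have h4 : c = -((↑u⁻¹ : A) * (y * dact A φ c)) := by
          rw [← hu] at h3
          calc c = (↑u⁻¹ : A) * (↑u * c) := (Units.inv_mul_cancel_left u c).symm
            _ = _ := by rw [eq_neg_of_add_eq_zero_left h3, mul_neg]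
        conv_lhs => rw [h4]
        ring
    obtain ⟨c, hc⟩ := hm p (Fact.out : p.Prime).one_lt.le le_rfl
    have hc0 : ∀ χ : A →ₗ[k] k, IsTangent χ → dact A χ c = 0 := by
      intro χ hχ
      have h := congrArg (dact A χ) hc
      rw [dact_tangent_mul hχ, dact_pow hχ, dact_pow hχ, CharP.cast_eq_zero, zero_mul, zero_mul] at h
      refine hnzp p ?_
      simpa using h.symm
    obtain ⟨e, rfl⟩ := exists_root_of_deriv_eq_zero p hc0
    have h0 : a - y * e = 0 := by
      refine IsReduced.eq_zero _ ⟨p, ?_⟩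
      rw [sub_pow_char, mul_pow, hc, sub_self]
    rw [sub_eq_zero.1 h0]
    exact Ideal.mul_mem_right _ _ (Ideal.mem_span_singleton_self y)
  refine (Ideal.isRadical_iff_quotient_reduced _).1 fun a ha => ?_
  obtain ⟨n, hn⟩ := ha
  have hn' : a ^ p ^ n ∈ Ideal.span {y} := by
    obtain ⟨j, hj⟩ := Nat.exists_eq_add_of_le (Nat.lt_pow_self (n := n) (Fact.out : p.Prime).one_lt).le
    rw [hj, pow_add]
    exact Ideal.mul_mem_right _ _ hn
  clear hn
  induction n with
  | zero => simpa using hn'
  | succ n ih => exact ih (key _ (by rwa [← pow_mul, ← pow_succ]))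

include p in
/-- If every additive function has zero differential, every such quotient is reduced. -/
theorem isReduced_of_forall_deriv_eq_zero [IsReduced A]
    (h : ∀ (y : A) (φ : A →ₗ[k] k), IsAdd k y → IsTangent φ → φ y = 0) {y : A} (hy : IsAdd k y) :
    IsReduced (A ⧸ Ideal.span {y}) := by
  classical
  haveI := charP_alg' p k A
  haveI : CharP (A ⊗[k] A) p := by
    haveI : Nontrivial (A ⊗[k] A) := ⟨1, 0, fun h => by
      have h2 := congrArg (Algebra.TensorProduct.lift (Bialgebra.counitAlgHom k A) (Bialgebra.counitAlgHom k A)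
        fun _ _ => Commute.all _ _) h
      rw [map_one, map_zero] at h2
      exact one_ne_zero h2⟩
    exact charP_of_injective_algebraMap (algebraMap k (A ⊗[k] A)).injective p
  have hroot : ∀ z : A, IsAdd k z → ∃ w, IsAdd k w ∧ w ^ p = z := by
    intro z hz
    obtain ⟨w, rfl⟩ := exists_root_of_deriv_eq_zero p (c := z) fun φ hφ => by
      rw [dact_add_fun hφ hz, h z φ hz hφ, map_zero]
    refine ⟨w, ?_, rfl⟩
    unfold IsAdd
    rw [← sub_eq_zero]
    refine H83.HopfPts.eq_zero_of_points (k := k) fun g g' => ?_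
    refine IsReduced.eq_zero _ ⟨p, ?_⟩
    rw [← map_pow, sub_pow_char, add_pow_char, ← Bialgebra.comul_pow, Algebra.TensorProduct.tmul_pow,
      Algebra.TensorProduct.tmul_pow, one_pow]
    rw [hz, sub_self, map_zero]
  choose next hnext using hroot
  let f : ℕ → {z : A // IsAdd k z} := fun n => Nat.rec ⟨y, hy⟩ (fun _ z => ⟨next z.1 z.2, (hnext z.1 z.2).1⟩) n
  have hf : ∀ n, (f (n + 1)).1 ^ p = (f n).1 := fun n => (hnext (f n).1 (f n).2).2
  haveI : IsNoetherianRing A := Algebra.FiniteType.isNoetherianRing k A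
  have hmono : Monotone fun n => Ideal.span {(f n).1} := monotone_nat_of_le_succ fun n => by
    rw [Ideal.span_le, Set.singleton_subset_iff, SetLike.mem_coe, ← hf n]
    exact Ideal.pow_mem_of_mem _ (Ideal.mem_span_singleton_self _) p (Fact.out : p.Prime).pos
  obtain ⟨n, hn⟩ := monotone_stabilizes_iff_noetherian.2 (inferInstance : IsNoetherian A A) ⟨_, hmono⟩
  have hn' : (f (n + 1)).1 ∈ Ideal.span {(f n).1} := (hn (n + 1) (Nat.le_succ n)).ge (Ideal.mem_span_singleton_self _)
  obtain ⟨a, ha⟩ := Ideal.mem_span_singleton'.1 hn'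
  set z := (f (n + 1)).1 with hz
  rw [← hf n] at ha
  obtain ⟨q, hq⟩ : ∃ q, p = q + 2 := ⟨p - 2, by have := (Fact.out : p.Prime).two_le; omega⟩
  let e : A := a * z ^ (q + 1)
  have hze : z * e = z := by
    calc z * e = a * z ^ p := by rw [hq]; simp only [e]; ring
      _ = z := ha
  have he : IsIdempotentElem e := by
    show e * e = e
    calc e * e = a * z ^ q * (z * e) := by simp only [e]; ring
      _ = e := by rw [hze]; simp only [e]; ring
  have hfm : ∀ m, (f m).1 ^ (p ^ m) = y := by
    intro m
    induction m with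
    | zero => simp [f]
    | succ m ih => rw [pow_succ', pow_mul, hf, ih]
  have hspan : Ideal.span {y} = Ideal.span {e} := by
    refine le_antisymm ?_ ?_ <;> rw [Ideal.span_le, Set.singleton_subset_iff, SetLike.mem_coe]
    · rw [← hfm (n + 1), ← hz]
      refine Ideal.pow_mem_of_mem _ ?_ _ (pow_pos (Fact.out : p.Prime).pos _)
      exact Ideal.mem_span_singleton'.2 ⟨z, hze⟩
    · obtain ⟨P, hP⟩ : ∃ P, p ^ (n + 1) = P + 1 :=
        ⟨p ^ (n + 1) - 1, by have := pow_pos (Fact.out : p.Prime).pos (n + 1); omega⟩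
      rw [← he.pow_succ_eq P, ← hP]
      refine Ideal.mem_span_singleton.2 ?_
      rw [← hfm (n + 1), ← hz]
      refine pow_dvd_pow_of_dvd ?_ _
      exact Dvd.dvd.mul_left (dvd_pow_self z (Nat.succ_ne_zero q)) a
  rw [hspan]
  exact isReduced_span_idempotent he

end

end Groth.Agent.H66.Conj
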