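import Groth.Agent.H66.Conj.Twist
import Groth.Agent.H66.Conj.Descend
import Groth.Agent.H66.Conj.Delta
import Groth.Agent.H66.Conj.Reduced
import Groth.Agent.H66.Section.Split
import Mathlib

/-!
Conjugacy of the sections of an extension of a diagonalisable group by a unipotent group.
-/

set_option autoImplicit false
set_option linter.unusedSectionVars false
set_option linter.style.haveILetI false
universe u

namespace Groth.Agent.H66.Conj

open TensorProduct WithConv Groth.Agent.H66.MultExt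

noncomputable section

theorem twisted_groupAlgebra {k : Type u} [Field k] {M : Type u} [CommGroup M] {t : MonoidAlgebra k M} {g : M}
    (ht : CoalgebraStruct.comul (R := k) t = t ⊗ₜ[k] (1 : MonoidAlgebra k M) + (MonoidAlgebra.single g 1) ⊗ₜ[k] t) :
    ∃ d : k, (g = 1 → d = 0) ∧ t = d • (1 - MonoidAlgebra.single g 1) := by
  classical
  let φ := (MonoidAlgebra.basis M k).coord 1
  have hlhs : ∀ z : MonoidAlgebra k M, TensorProduct.rid k _ (φ.lTensor _ (CoalgebraStruct.comul (R := k) z)) =
      φ z • (1 : MonoidAlgebra k M) := by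
    intro z
    induction z using MonoidAlgebra.induction_linear with
    | zero => simp
    | add p q hp hq => simp only [map_add, hp, hq, add_smul]
    | single m r =>
      rw [show (MonoidAlgebra.single m r : MonoidAlgebra k M) = r • MonoidAlgebra.single m 1 by
        rw [MonoidAlgebra.smul_single, smul_eq_mul, mul_one]]
      simp only [map_smul, (MonoidAlgebra.isGroupLikeElem_single_one (R := k) m).comul_eq_tmul_self,
        LinearMap.lTensor_tmul, TensorProduct.rid_tmul, smul_smul, smul_eq_mul]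
      by_cases hm : m = 1
      · subst hm; simp [φ, MonoidAlgebra.one_def, mul_comm]
      · have h0 : φ (MonoidAlgebra.single m 1) = 0 := by
          rw [← MonoidAlgebra.basis_apply, Module.Basis.coord_apply, Module.Basis.repr_self, Finsupp.single_eq_of_ne]
          exact fun h => hm h.symm
        simp [h0]
  have h := congrArg (fun z => TensorProduct.rid k _ (φ.lTensor (MonoidAlgebra k M) z)) ht
  simp only [hlhs, map_add, LinearMap.lTensor_tmul, TensorProduct.rid_tmul] at h
  have hφ1 : φ (1 : MonoidAlgebra k M) = 1 := by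
    simp [φ, MonoidAlgebra.one_def, ← MonoidAlgebra.basis_apply]
  rw [hφ1, one_smul] at h
  by_cases hg : g = 1
  · subst hg
    refine ⟨0, fun _ => rfl, ?_⟩
    rw [← MonoidAlgebra.one_def] at h
    rw [zero_smul]
    exact add_eq_right.1 h.symm
  · refine ⟨φ t, fun h1 => absurd h1 hg, ?_⟩
    rw [smul_sub, h]
    abel

theorem exists_conj_point {k : Type u} [Field k] [IsAlgClosed k] {A : Type u} [CommRing A] [HopfAlgebra k A]
    [Algebra.FiniteType k A] {M : Type u} [CommGroup M] (j : MonoidAlgebra k M →ₐc[k] A) (J : Ideal A)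
    [J.IsHopfIdeal k] (hJ : J = Section.augIdeal j) (hU : HopfRep.IsUnipotent k (A ⧸ J))
    (hred : IsReduced (MonoidAlgebra k M) ∨ IsReduced (A ⧸ J)) (r₁ r₂ : A →ₐc[k] MonoidAlgebra k M)
    (hr₁ : r₁.comp j = BialgHom.id k (MonoidAlgebra k M)) (hr₂ : r₂.comp j = BialgHom.id k (MonoidAlgebra k M)) :
    ∃ u : Pt k A k, (∀ a ∈ J, u.ofConv a = 0) ∧
      toConv (r₂ : A →ₐ[k] MonoidAlgebra k M) = post (Algebra.ofId k (MonoidAlgebra k M)) u *
        toConv (r₁ : A →ₐ[k] MonoidAlgebra k M) * (post (Algebra.ofId k (MonoidAlgebra k M)) u)⁻¹ := by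
  classical
  have hrj₂ : ∀ b, r₂ (j b) = b := fun b => congrArg (fun f : MonoidAlgebra k M →ₐc[k] MonoidAlgebra k M => f b) hr₂
  let kM := MonoidAlgebra k M
  let ι : Pt k A k →* Pt k A kM := post (Algebra.ofId k kM)
  have hkill : ∀ {R : Type u} [CommRing R] [Algebra k R] (F : Pt k A R), pre j F = 1 → ∀ a ∈ J, F.ofConv a = 0 := by
    intro R _ _ F hF
    have : J ≤ RingHom.ker F.ofConv := by
      rw [hJ]
      refine Ideal.map_le_iff_le_comap.2 fun b hb => ?_
      show (pre j F).ofConv b = 0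
      rw [hF]
      show algebraMap k R (CoalgebraStruct.counit (R := k) b) = 0
      rw [show CoalgebraStruct.counit (R := k) b = 0 from hb, map_zero]
    exact fun a ha => this ha
  have hprej : ∀ r : A →ₐc[k] kM, r.comp j = BialgHom.id k kM →
      pre j (toConv (r : A →ₐ[k] kM) : Pt k A kM) = toConv (AlgHom.id k kM) := fun r hr =>
    WithConv.ofConv_injective (congrArg (fun f : kM →ₐc[k] kM => (f : kM →ₐ[k] kM)) hr)
  let 𝒮 : Set (Ideal A) := {I | ∃ (_ : I.IsHopfIdeal k) (u : Pt k A k) (r₀ : A →ₐc[k] kM),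
    pre j u = 1 ∧ toConv (r₀ : A →ₐ[k] kM) = ι u * toConv (r₁ : A →ₐ[k] kM) * (ι u)⁻¹ ∧
      (∀ a ∈ I, r₀ a = 0) ∧ (∀ a ∈ I, r₂ a = 0) ∧ (IsReduced kM ∨ (I ⊔ J).IsRadical)}
  have hbot : (⊥ : Ideal A) ∈ 𝒮 := by
    refine ⟨?_, 1, r₁, map_one _, by rw [map_one]; simp, fun a ha => by rw [Ideal.mem_bot.1 ha, map_zero],
      fun a ha => by rw [Ideal.mem_bot.1 ha, map_zero], hred.imp id fun h => ?_⟩
    · haveI : ((⊥ : Ideal A).restrictScalars k).IsCoideal :=
        Submodule.IsCoideal.mk (fun x hx => by rw [show x = 0 from hx, map_zero])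
          (fun x hx => by rw [show x = 0 from hx, map_zero, map_zero])
      exact Ideal.IsHopfIdeal.mk fun x hx => by rw [show x = 0 from hx, map_zero]; exact zero_mem _
    · rw [bot_sup_eq]
      exact (Ideal.isRadical_iff_quotient_reduced J).2 h
  haveI : IsNoetherianRing A := Algebra.FiniteType.isNoetherianRing k A
  obtain ⟨I, ⟨hI, u, r₀, huj, hu, hr0I, hr2I, hIred⟩, hmax⟩ :=
    set_has_maximal_iff_noetherian.2 inferInstance 𝒮 ⟨⊥, hbot⟩
  haveI := hI
  let π : A →ₐc[k] A ⧸ I := Bialgebra.Quotient.mkBialgHom (R := k) I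
  obtain ⟨s₀, hs₀⟩ := exists_lift I r₀ hr0I
  obtain ⟨s₂, hs₂⟩ := exists_lift I r₂ hr2I
  let j' : kM →ₐc[k] A ⧸ I := π.comp j
  have hr₀j : r₀.comp j = BialgHom.id k kM := by
    have h := congrArg (pre j) hu
    have hιu : pre j (ι u) = 1 := by
      show post (Algebra.ofId k kM) (pre j u) = 1
      rw [huj, map_one]
    rw [map_mul, map_mul, pre_inv, hιu, hprej r₁ hr₁, inv_one, mul_one, one_mul] at h
    exact BialgHom.ext fun b => congrArg (fun F : Pt k kM kM => F.ofConv b) h
  have hs₀j : s₀.comp j' = BialgHom.id k kM :=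
    BialgHom.ext fun b => (hs₀ (j b)).trans (congrArg (fun f : kM →ₐc[k] kM => f b) hr₀j)
  have hs₂j : ∀ b, s₂ (j' b) = b := fun b => (hs₂ (j b)).trans (hrj₂ b)
  let J' : Ideal (A ⧸ I) := J.map (Ideal.Quotient.mk I)
  haveI : J'.IsHopfIdeal k := isHopfIdeal_map_quotient I J
  have hJ' : J' = Section.augIdeal j' := by
    simp only [J', hJ, Ideal.map_map]
    rfl
  haveI : Algebra.FiniteType k (A ⧸ I) :=
    Algebra.FiniteType.of_surjective (π : A →ₐ[k] A ⧸ I) Ideal.Quotient.mk_surjective
  let q' : A ⧸ I →ₐc[k] (A ⧸ I) ⧸ J' := Bialgebra.Quotient.mkBialgHom (R := k) J'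
  haveI : Algebra.FiniteType k ((A ⧸ I) ⧸ J') :=
    Algebra.FiniteType.of_surjective (q' : A ⧸ I →ₐ[k] (A ⧸ I) ⧸ J') Ideal.Quotient.mk_surjective
  obtain ⟨q₀, hq₀⟩ := exists_lift J (q'.comp π) fun a ha =>
    Ideal.Quotient.eq_zero_iff_mem.2 (Ideal.mem_map_of_mem _ ha)
  have hU' : HopfRep.IsUnipotent k ((A ⧸ I) ⧸ J') :=
    H66.ExactSeq.isUnipotent_of_surjective q₀ (fun w => by
      obtain ⟨w, rfl⟩ := Ideal.Quotient.mk_surjective w
      obtain ⟨a, rfl⟩ := Ideal.Quotient.mk_surjective w
      exact ⟨Ideal.Quotient.mk J a, hq₀ a⟩) hU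
  have hU'red : IsReduced kM ∨ IsReduced ((A ⧸ I) ⧸ J') := hIred.imp id fun h => by
    refine (Ideal.isRadical_iff_quotient_reduced J').1 fun x hx => ?_
    obtain ⟨n, hn⟩ := hx
    obtain ⟨a, rfl⟩ := Ideal.Quotient.mk_surjective x
    have hc : J'.comap (Ideal.Quotient.mk I) = I ⊔ J := by
      rw [Ideal.comap_map_of_surjective _ Ideal.Quotient.mk_surjective, ← RingHom.ker_eq_comap_bot, Ideal.mk_ker,
        sup_comm]
    have ha : a ∈ J'.comap (Ideal.Quotient.mk I) := by
      rw [hc]
      refine h ⟨n, ?_⟩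
      rw [← hc, Ideal.mem_comap, map_pow]
      exact hn
    exact ha
  by_cases hexU : ∃ a : (A ⧸ I) ⧸ J', a ≠ algebraMap k _ (CoalgebraStruct.counit (R := k) a)
  · exfalso
    obtain ⟨v, hv, hv0⟩ := exists_add_ne_zero hU' hexU
    -- a twisted function
    obtain ⟨g, y, hy, hsy, hy0, hyred⟩ : ∃ (g : M) (y : A ⧸ I), CoalgebraStruct.comul (R := k) y =
        y ⊗ₜ[k] (1 : A ⧸ I) + j' (MonoidAlgebra.single g 1) ⊗ₜ[k] y ∧ s₀ y = 0 ∧ q' y ≠ 0 ∧
          (IsReduced kM ∨ IsReduced (((A ⧸ I) ⧸ J') ⧸ Ideal.span {q' y})) := by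
      have hadd : ∀ {c : A ⧸ I} {g : M}, CoalgebraStruct.comul (R := k) c =
          c ⊗ₜ[k] (1 : A ⧸ I) + j' (MonoidAlgebra.single g 1) ⊗ₜ[k] c → IsAdd k (q' c) := by
        intro c g hc
        show CoalgebraStruct.comul (R := k) (q' c) = _
        rw [← CoalgHomClass.map_comp_comul_apply q' c, hc, map_add, TensorProduct.map_tmul, TensorProduct.map_tmul]
        have h1 : q' (j' (MonoidAlgebra.single g 1)) = 1 := by
          rw [← map_one q']
          refine Ideal.Quotient.eq.2 ?_
          rw [hJ', ← map_one j', show j' (MonoidAlgebra.single g 1) = (j' : kM →ₐ[k] A ⧸ I) (MonoidAlgebra.single g 1) from rfl,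
            show j' (1 : kM) = (j' : kM →ₐ[k] A ⧸ I) 1 from rfl, ← map_sub]
          refine Ideal.mem_map_of_mem _ ?_
          show Bialgebra.counitAlgHom k kM _ = 0
          rw [map_sub, Bialgebra.counitAlgHom_apply, (MonoidAlgebra.isGroupLikeElem_single_one g).counit_eq_one,
            map_one, sub_self]
        show q' c ⊗ₜ[k] q' 1 + q' (j' (MonoidAlgebra.single g 1)) ⊗ₜ[k] q' c = _
        rw [h1, map_one]
      have hfam : ∀ {w : (A ⧸ I) ⧸ J'}, IsAdd k w → ∀ (F : ((A ⧸ I) ⧸ J') →ₗ[k] k), F w ≠ 0 →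
          ∃ (g : M) (y : A ⧸ I), CoalgebraStruct.comul (R := k) y =
            y ⊗ₜ[k] (1 : A ⧸ I) + j' (MonoidAlgebra.single g 1) ⊗ₜ[k] y ∧ s₀ y = 0 ∧ F (q' y) = 1 := by
        intro w hw F hFw
        obtain ⟨c, hc1, hc2, hc3⟩ := exists_twisted_family j' s₀ hs₀j J' hJ' hw
        obtain ⟨g, -, hg⟩ : ∃ g ∈ c.support, F (q' (c g)) ≠ 0 :=
          Finset.exists_ne_zero_of_sum_ne_zero (by rw [← map_sum]; exact hc3.symm ▸ hFw)
        refine ⟨g, (F (q' (c g)))⁻¹ • c g, ?_, by rw [map_smul, hc2, smul_zero], ?_⟩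
        · simp only [map_smul, hc1, smul_add, TensorProduct.tmul_smul, TensorProduct.smul_tmul']
        · rw [map_smul, map_smul, smul_eq_mul, inv_mul_cancel₀ hg]
      obtain ⟨F, hF⟩ := Module.Projective.exists_dual_ne_zero k hv0
      rcases hU'red with hkM | hUr
      · obtain ⟨g, y, h1, h2, h3⟩ := hfam hv F hF
        exact ⟨g, y, h1, h2, fun h => by rw [h, map_zero] at h3; exact zero_ne_one h3, Or.inl hkM⟩
      · haveI := hUr
        rcases CharP.exists k with ⟨p, hp⟩
        rcases CharP.char_is_prime_or_zero k p with hpp | rfl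
        · haveI := Fact.mk hpp
          by_cases hD : ∃ (w : (A ⧸ I) ⧸ J') (φ : ((A ⧸ I) ⧸ J') →ₗ[k] k), IsAdd k w ∧ IsTangent φ ∧ φ w ≠ 0
          · obtain ⟨w, φ, hw, hφ, hφw⟩ := hD
            obtain ⟨g, y, h1, h2, h3⟩ := hfam hw φ hφw
            exact ⟨g, y, h1, h2, fun h => by rw [h, map_zero] at h3; exact zero_ne_one h3,
              Or.inr (isReduced_of_deriv_ne_zero p (hadd h1) hφ h3)⟩
          · push_neg at hD
            obtain ⟨g, y, h1, h2, h3⟩ := hfam hv F hF
            exact ⟨g, y, h1, h2, fun h => by rw [h, map_zero] at h3; exact zero_ne_one h3,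
              Or.inr (isReduced_of_forall_deriv_eq_zero p (fun w φ hw hφ => hD w φ hw hφ) (hadd h1))⟩
        · haveI : CharZero k := CharP.charP_to_charZero k
          obtain ⟨g, y, h1, h2, h3⟩ := hfam hv F hF
          haveI : (Ideal.span {q' y}).IsHopfIdeal k :=
            Section.isHopfIdeal_span_twisted (u := 1) IsGroupLikeElem.one (hadd h1)
          exact ⟨g, y, h1, h2, fun h => by rw [h, map_zero] at h3; exact zero_ne_one h3,
            Or.inr (H83.HopfPts.isReduced (k := k) (A := ((A ⧸ I) ⧸ J') ⧸ Ideal.span {q' y}))⟩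
    have hyadd : IsAdd k (q' y) := by
      show CoalgebraStruct.comul (R := k) (q' y) = _
      rw [← CoalgHomClass.map_comp_comul_apply q' y, hy, map_add, TensorProduct.map_tmul, TensorProduct.map_tmul]
      have h1 : q' (j' (MonoidAlgebra.single g 1)) = 1 := by
        rw [← map_one q']
        refine Ideal.Quotient.eq.2 ?_
        rw [hJ', ← map_one j', show j' (MonoidAlgebra.single g 1) = (j' : kM →ₐ[k] A ⧸ I) (MonoidAlgebra.single g 1) from rfl,
          show j' (1 : kM) = (j' : kM →ₐ[k] A ⧸ I) 1 from rfl, ← map_sub]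
        refine Ideal.mem_map_of_mem _ ?_
        show Bialgebra.counitAlgHom k kM _ = 0
        rw [map_sub, Bialgebra.counitAlgHom_apply, (MonoidAlgebra.isGroupLikeElem_single_one g).counit_eq_one,
          map_one, sub_self]
      show q' y ⊗ₜ[k] q' 1 + q' (j' (MonoidAlgebra.single g 1)) ⊗ₜ[k] q' y = _
      rw [h1, map_one]
    have hgl' : IsGroupLikeElem k (j' (MonoidAlgebra.single g 1)) :=
      (MonoidAlgebra.isGroupLikeElem_single_one g).map j'
    -- value at the other section
    have ht : CoalgebraStruct.comul (R := k) (s₂ y) =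
        s₂ y ⊗ₜ[k] (1 : kM) + (MonoidAlgebra.single g 1) ⊗ₜ[k] s₂ y := by
      rw [← CoalgHomClass.map_comp_comul_apply s₂ y, hy, map_add, TensorProduct.map_tmul, TensorProduct.map_tmul]
      show s₂ y ⊗ₜ[k] s₂ 1 + s₂ (j' (MonoidAlgebra.single g 1)) ⊗ₜ[k] s₂ y = _
      rw [hs₂j, map_one]
    obtain ⟨d, hd1, hd⟩ := twisted_groupAlgebra ht
    -- a point of the kernel with value `d`
    obtain ⟨w, hwd⟩ : ∃ w : ((A ⧸ I) ⧸ J') →ₐ[k] k, w (q' y) = d := by
      let Γ : AddSubgroup k :=
        { carrier := {c | ∀ R : Polynomial k, Polynomial.aeval (q' y) R = 0 → R.eval c = 0}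
          zero_mem' := fun R hR => by
            have h := congrArg (Bialgebra.counitAlgHom k ((A ⧸ I) ⧸ J')) hR
            rw [← Polynomial.aeval_algHom_apply, map_zero, Bialgebra.counitAlgHom_apply, counit_add_fun hyadd,
              Polynomial.coe_aeval_eq_eval] at h
            exact h
          add_mem' := fun {a b} ha hb R hR => by
            obtain ⟨f, rfl⟩ := exists_point_of_root hyadd ha
            obtain ⟨f', rfl⟩ := exists_point_of_root hyadd hb
            have h := twisted_mul_apply (R := k) (y := q' y) (G := 1) hyadd (toConv f) (toConv f')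
            rw [map_one, one_mul] at h
            have h2 := congrArg ((toConv f * toConv f' : Pt k _ k)).ofConv hR
            rw [← Polynomial.aeval_algHom_apply, map_zero, Polynomial.coe_aeval_eq_eval, h] at h2
            exact h2
          neg_mem' := fun {a} ha R hR => by
            obtain ⟨f, rfl⟩ := exists_point_of_root hyadd ha
            have h := twisted_inv_apply (R := k) (y := q' y) (G := 1) hyadd Bialgebra.counit_one (toConv f)
            rw [map_one, one_mul] at h
            have h2 := congrArg ((toConv f : Pt k _ k)⁻¹).ofConv hR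
            rw [← Polynomial.aeval_algHom_apply, map_zero, Polynomial.coe_aeval_eq_eval,
              eq_neg_of_add_eq_zero_left h] at h2
            exact h2 }
      refine exists_point_of_root hyadd (show d ∈ Γ from ?_)
      by_cases hg : g = 1
      · rw [hd1 hg]; exact Γ.zero_mem
      let D : Pt k (A ⧸ I) kM := toConv (s₂ : A ⧸ I →ₐ[k] kM) * (toConv (s₀ : A ⧸ I →ₐ[k] kM))⁻¹
      have hDj : pre j' D = 1 := by
        have e2 : pre j' (toConv (s₂ : A ⧸ I →ₐ[k] kM) : Pt k _ kM) = toConv (AlgHom.id k kM) :=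
          WithConv.ofConv_injective (AlgHom.ext hs₂j)
        have e0 : pre j' (toConv (s₀ : A ⧸ I →ₐ[k] kM) : Pt k _ kM) = toConv (AlgHom.id k kM) :=
          WithConv.ofConv_injective (congrArg (fun f : kM →ₐc[k] kM => (f : kM →ₐ[k] kM)) hs₀j)
        rw [map_mul, pre_inv, e2, e0]
        exact mul_inv_cancel _
      have hDJ : ∀ a ∈ J', D.ofConv a = 0 := by
        have : J' ≤ RingHom.ker D.ofConv := by
          rw [hJ']
          refine Ideal.map_le_iff_le_comap.2 fun b hb => ?_
          show (pre j' D).ofConv b = 0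
          rw [hDj]
          show algebraMap k kM (CoalgebraStruct.counit (R := k) b) = 0
          rw [show CoalgebraStruct.counit (R := k) b = 0 from hb, map_zero]
        exact fun a ha => this ha
      refine mem_values hg (q' y) Γ (fun c => Iff.rfl) hU'red (Ideal.Quotient.liftₐ J' D.ofConv hDJ) d ?_
      show D.ofConv y = _
      have h1 := twisted_mul_apply (R := kM) hy (toConv (s₂ : A ⧸ I →ₐ[k] kM)) (toConv (s₀ : A ⧸ I →ₐ[k] kM))⁻¹
      have h2 := twisted_inv_apply (R := kM) hy hgl'.counit_eq_one (toConv (s₀ : A ⧸ I →ₐ[k] kM))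
      rw [show (toConv (s₀ : A ⧸ I →ₐ[k] kM) : Pt k _ kM).ofConv y = 0 from hsy, mul_zero, add_zero] at h2
      rw [h2, mul_zero, add_zero] at h1
      exact h1.trans hd
    -- the new section
    let w₁ : Pt k (A ⧸ I) k := toConv (w.comp (q' : A ⧸ I →ₐ[k] (A ⧸ I) ⧸ J'))
    have hw₁j : pre j' w₁ = 1 := by
      apply WithConv.ofConv_injective
      refine AlgHom.ext fun b => ?_
      show w (q' (j' b)) = algebraMap k k (CoalgebraStruct.counit (R := k) b)
      rw [show q' (j' b) = algebraMap k _ (CoalgebraStruct.counit (R := k) b) by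
        rw [← AlgHom.commutes (Ideal.Quotient.mkₐ k J')]
        refine Ideal.Quotient.eq.2 ?_
        rw [hJ', show algebraMap k (A ⧸ I) (CoalgebraStruct.counit (R := k) b) =
          (j' : kM →ₐ[k] A ⧸ I) (algebraMap k kM (CoalgebraStruct.counit (R := k) b)) from (AlgHom.commutes _ _).symm,
          show j' b = (j' : kM →ₐ[k] A ⧸ I) b from rfl, ← map_sub]
        refine Ideal.mem_map_of_mem _ ?_
        show Bialgebra.counitAlgHom k kM _ = 0
        rw [map_sub, AlgHom.commutes]
        exact sub_self _, AlgHom.commutes]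
    obtain ⟨s₀', hs₀'⟩ := exists_conj w₁ s₀
    obtain ⟨r₀', hr₀'⟩ := exists_conj (pre π w₁ * u) r₁
    have hr₀s : ∀ a, r₀' a = s₀' (π a) := by
      have hr0 : pre π (toConv (s₀ : A ⧸ I →ₐ[k] kM)) = toConv (r₀ : A →ₐ[k] kM) :=
        WithConv.ofConv_injective (AlgHom.ext hs₀)
      have h : toConv (r₀' : A →ₐ[k] kM) = pre π (toConv (s₀' : A ⧸ I →ₐ[k] kM)) := by
        rw [hr₀', hs₀', map_mul (pre π), map_mul (pre π), pre_inv, hr0, hu, map_mul]
        show _ = ι (pre π w₁) * (ι u * toConv (r₁ : A →ₐ[k] kM) * (ι u)⁻¹) * (ι (pre π w₁))⁻¹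
        simp only [ι, kM]
        group
      exact fun a => congrArg (fun F : Pt k A kM => F.ofConv a) h
    have hs₀'j : ∀ b, s₀' (j' b) = b := by
      have h := congrArg (pre j') hs₀'
      have hι : pre j' (post (Algebra.ofId k kM) w₁) = 1 := by
        show post (Algebra.ofId k kM) (pre j' w₁) = 1
        rw [hw₁j, map_one]
      have e0 : pre j' (toConv (s₀ : A ⧸ I →ₐ[k] kM) : Pt k _ kM) = toConv (AlgHom.id k kM) :=
        WithConv.ofConv_injective (congrArg (fun f : kM →ₐc[k] kM => (f : kM →ₐ[k] kM)) hs₀j)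
      rw [map_mul, map_mul, pre_inv, hι, e0, inv_one, mul_one, one_mul] at h
      exact fun b => congrArg (fun F : Pt k kM kM => F.ofConv b) h
    have hs₀'y : s₀' y = s₂ y := by
      refine (congrArg (fun F : Pt k (A ⧸ I) kM => F.ofConv y) hs₀').trans ?_
      let W : Pt k (A ⧸ I) kM := post (Algebra.ofId k kM) w₁
      show (W * toConv (s₀ : A ⧸ I →ₐ[k] kM) * W⁻¹).ofConv y = _
      rw [twisted_mul_apply hy, twisted_mul_apply hy, mul_apply_groupLike _ _ hgl']
      have hWy : W.ofConv y = algebraMap k kM d := congrArg (algebraMap k kM) hwd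
      have hWG : W.ofConv (j' (MonoidAlgebra.single g 1)) = 1 := by
        have := congrArg (fun F : Pt k kM k => F.ofConv (MonoidAlgebra.single g 1)) hw₁j
        refine (congrArg (algebraMap k kM) this).trans ?_
        show algebraMap k kM (algebraMap k k (CoalgebraStruct.counit (R := k) (MonoidAlgebra.single g (1 : k)))) = 1
        rw [(MonoidAlgebra.isGroupLikeElem_single_one g).counit_eq_one, map_one, map_one]
      have hWi := twisted_inv_apply (R := kM) hy hgl'.counit_eq_one W
      have hWiG : W⁻¹.ofConv (j' (MonoidAlgebra.single g 1)) = 1 := by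
        have h := mul_apply_groupLike W⁻¹ W hgl'
        rw [inv_mul_cancel, hWG, mul_one] at h
        rw [← h]
        show algebraMap k kM (CoalgebraStruct.counit (R := k) (j' (MonoidAlgebra.single g 1))) = 1
        rw [hgl'.counit_eq_one, map_one]
      rw [hWiG, one_mul, hWy] at hWi
      rw [show (toConv (s₀ : A ⧸ I →ₐ[k] kM) : Pt k _ kM).ofConv y = 0 from hsy,
        show (toConv (s₀ : A ⧸ I →ₐ[k] kM) : Pt k _ kM).ofConv (j' (MonoidAlgebra.single g 1)) =
          MonoidAlgebra.single g 1 from congrArg (fun f : kM →ₐc[k] kM => f (MonoidAlgebra.single g 1)) hs₀j,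
        hWy, hWG, eq_neg_of_add_eq_zero_left hWi, mul_zero, add_zero, one_mul, hd, smul_sub, Algebra.smul_def,
        Algebra.smul_def, mul_one]
      ring
    let z : A ⧸ I := y - j' (s₂ y)
    have hz : CoalgebraStruct.comul (R := k) z = z ⊗ₜ[k] (1 : A ⧸ I) + j' (MonoidAlgebra.single g 1) ⊗ₜ[k] z := by
      have h := congrArg (TensorProduct.map (j' : kM →ₗc[k] A ⧸ I).toLinearMap (j' : kM →ₗc[k] A ⧸ I).toLinearMap) ht
      rw [map_add, TensorProduct.map_tmul, TensorProduct.map_tmul] at h
      simp only [z, map_sub, hy, TensorProduct.sub_tmul, TensorProduct.tmul_sub]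
      rw [show CoalgebraStruct.comul (R := k) (j' (s₂ y)) = _ from (CoalgHomClass.map_comp_comul_apply j' (s₂ y)).symm]
      erw [h]
      rw [show (j' : kM →ₗc[k] A ⧸ I).toLinearMap (1 : kM) = (1 : A ⧸ I) from map_one j']
      show _ - (j' (s₂ y) ⊗ₜ[k] (1 : A ⧸ I) + j' (MonoidAlgebra.single g 1) ⊗ₜ[k] j' (s₂ y)) = _
      abel
    have hqz : q' z = q' y := by
      have h : q' (j' (s₂ y)) = 0 := by
        refine Ideal.Quotient.eq_zero_iff_mem.2 ?_
        rw [hJ']
        refine Ideal.mem_map_of_mem _ ?_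
        show CoalgebraStruct.counit (R := k) (s₂ y) = 0
        rw [hd, map_smul, map_sub, Bialgebra.counit_one,
          (MonoidAlgebra.isGroupLikeElem_single_one g).counit_eq_one, sub_self, smul_zero]
      rw [show z = y - j' (s₂ y) from rfl, map_sub, h, sub_zero]
    let Iz : Ideal (A ⧸ I) := Ideal.span {z}
    haveI : Iz.IsHopfIdeal k := Section.isHopfIdeal_span_twisted hgl' hz
    haveI := isHopfIdeal_comap_quotient (k := k) I Iz
    refine hmax (Iz.comap (Ideal.Quotient.mk I)) ⟨inferInstance, pre π w₁ * u, r₀', ?_, hr₀', ?_, ?_, ?_⟩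
      (lt_of_le_of_ne ?_ ?_)
    · rw [map_mul, huj, mul_one]
      exact hw₁j
    · intro a ha
      rw [hr₀s]
      obtain ⟨x, hx⟩ := Ideal.mem_span_singleton'.1 (Ideal.mem_comap.1 ha)
      rw [show π a = x * z from hx.symm, map_mul, show z = y - j' (s₂ y) from rfl, map_sub, hs₀'j, hs₀'y, sub_self,
        mul_zero]
    · intro a ha
      rw [← hs₂]
      obtain ⟨x, hx⟩ := Ideal.mem_span_singleton'.1 (Ideal.mem_comap.1 ha)
      rw [show Ideal.Quotient.mk I a = x * z from hx.symm, map_mul, show z = y - j' (s₂ y) from rfl, map_sub, hs₂j,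
        sub_self, mul_zero]
    · refine hyred.imp id fun hr => ?_
      have hrad : (J' ⊔ Iz).IsRadical := by
        rintro x ⟨n, hn⟩
        have h1 : ∀ x, x ∈ J' ⊔ Iz ↔ q' x ∈ Ideal.span {q' y} := fun x => by
          have e : Ideal.span {q' y} = Iz.map (Ideal.Quotient.mk J') := by
            rw [Ideal.map_span, Set.image_singleton, ← hqz]; rfl
          show _ ↔ Ideal.Quotient.mk J' x ∈ _
          rw [e, ← Ideal.mem_comap, Ideal.comap_map_of_surjective _ Ideal.Quotient.mk_surjective,
            ← RingHom.ker_eq_comap_bot, Ideal.mk_ker, sup_comm]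
        rw [h1] at hn ⊢
        rw [map_pow] at hn
        exact (Ideal.isRadical_iff_quotient_reduced _).2 hr ⟨n, hn⟩
      rintro x ⟨n, hn⟩
      have hsup : (J' ⊔ Iz).comap (Ideal.Quotient.mk I) = Iz.comap (Ideal.Quotient.mk I) ⊔ J := by
        conv_lhs => rw [← Ideal.map_comap_of_surjective _ Ideal.Quotient.mk_surjective Iz]
        rw [show J' ⊔ (Iz.comap (Ideal.Quotient.mk I)).map (Ideal.Quotient.mk I) =
          (J ⊔ Iz.comap (Ideal.Quotient.mk I)).map (Ideal.Quotient.mk I) from (Ideal.map_sup _ _ _).symm,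
          Ideal.comap_map_of_surjective _ Ideal.Quotient.mk_surjective, ← RingHom.ker_eq_comap_bot, Ideal.mk_ker,
          sup_comm J, sup_right_comm]
        refine congrArg (· ⊔ J) (sup_eq_left.2 fun a ha => ?_)
        rw [Ideal.mem_comap, Ideal.Quotient.eq_zero_iff_mem.2 ha]
        exact zero_mem _
      rw [← hsup, Ideal.mem_comap] at hn ⊢
      rw [map_pow] at hn
      exact hrad ⟨n, hn⟩
    · exact fun a ha => by rw [Ideal.mem_comap, Ideal.Quotient.eq_zero_iff_mem.2 ha]; exact zero_mem _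
    · intro he
      have hz0 : z = 0 := by
        obtain ⟨a, ha⟩ := Ideal.Quotient.mk_surjective z
        have : a ∈ Iz.comap (Ideal.Quotient.mk I) := by
          rw [Ideal.mem_comap, ha]; exact Ideal.mem_span_singleton_self z
        rw [← he] at this
        rw [← ha]
        exact Ideal.Quotient.eq_zero_iff_mem.2 this
      rw [hz0, map_zero] at hqz
      exact hy0 hqz.symm
  · push_neg at hexU
    refine ⟨u, hkill u huj, ?_⟩
    let ρ : A ⧸ I →ₐc[k] A ⧸ I := j'.comp s₀
    let P : Pt k (A ⧸ I) (A ⧸ I) := toConv (AlgHom.id k (A ⧸ I)) * (toConv (ρ : A ⧸ I →ₐ[k] A ⧸ I))⁻¹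
    have hPj : pre j' P = 1 := by
      rw [map_mul, pre_inv]
      have h2 : pre j' (toConv (ρ : A ⧸ I →ₐ[k] A ⧸ I) : Pt k _ _) = toConv (j' : kM →ₐ[k] A ⧸ I) := by
        apply WithConv.ofConv_injective
        exact AlgHom.ext fun b => congrArg j' (congrArg (fun f : kM →ₐc[k] kM => f b) hs₀j)
      rw [h2]
      exact mul_inv_cancel _
    have hP1 : P = 1 := by
      apply WithConv.ofConv_injective
      refine AlgHom.ext fun a => ?_
      have hm : a - algebraMap k (A ⧸ I) (CoalgebraStruct.counit (R := k) a) ∈ J' := by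
        rw [← Ideal.Quotient.eq]
        show q' a = algebraMap k _ (CoalgebraStruct.counit (R := k) a)
        rw [hexU (q' a), CoalgHomClass.counit_comp_apply]
      rw [hJ'] at hm
      have hle : Section.augIdeal j' ≤ RingHom.ker P.ofConv := Ideal.map_le_iff_le_comap.2 fun b hb => by
        show (pre j' P).ofConv b = 0
        rw [hPj]
        show algebraMap k (A ⧸ I) (CoalgebraStruct.counit (R := k) b) = 0
        rw [show CoalgebraStruct.counit (R := k) b = 0 from hb, map_zero]
      have h := hle hm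
      rw [RingHom.mem_ker, map_sub, AlgHom.commutes, sub_eq_zero] at h
      exact h
    have hid := mul_inv_eq_one.1 hP1
    have hsame : ∀ a, s₂ a = s₀ a := fun a => by
      have h : a = j' (s₀ a) := congrArg (fun F : Pt k (A ⧸ I) (A ⧸ I) => F.ofConv a) hid
      rw [h, hs₂j]
      exact ((congrArg (fun f : kM →ₐc[k] kM => f (s₀ a)) hs₀j) :).symm
    rw [← hu]
    exact WithConv.ofConv_injective (AlgHom.ext fun a =>
      ((hs₂ a).symm.trans ((hsame _).trans (hs₀ a))))

end

end Groth.Agent.H66.Conj
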