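import Groth.Agent.H66.MultExt.Central
import Groth.Agent.H66.Section.Split
import Groth.Agent.H66.Conj.Prim
import Groth.Agent.H83.HopfPts.Points
import Groth.Prelude.Def_Dyn
import Mathlib

/-!
Twisted additive functions on a semidirect product, and points with prescribed value.
-/

set_option autoImplicit false
set_option linter.unusedSectionVars false
set_option linter.style.haveILetI false
universe u

namespace Groth.Agent.H66.Conj

open TensorProduct WithConv Groth.Agent.H66.MultExt

noncomputable section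

variable {k : Type u} [Field k] {A : Type u} [CommRing A] [HopfAlgebra k A]

theorem twisted_mul_apply {R : Type u} [CommRing R] [Algebra k R] {y G : A}
    (hy : CoalgebraStruct.comul (R := k) y = y ⊗ₜ[k] (1 : A) + G ⊗ₜ[k] y) (f g : Pt k A R) :
    (f * g).ofConv y = f.ofConv y + f.ofConv G * g.ofConv y := by
  refine (AlgHom.convMul_apply f g y).trans ?_
  rw [hy, map_add, Algebra.TensorProduct.lift_tmul, Algebra.TensorProduct.lift_tmul, map_one, mul_one]

theorem twisted_inv_apply {R : Type u} [CommRing R] [Algebra k R] {y G : A}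
    (hy : CoalgebraStruct.comul (R := k) y = y ⊗ₜ[k] (1 : A) + G ⊗ₜ[k] y)
    (hG : CoalgebraStruct.counit (R := k) G = 1) (f : Pt k A R) :
    f⁻¹.ofConv y + f⁻¹.ofConv G * f.ofConv y = 0 := by
  have h := twisted_mul_apply hy f⁻¹ f
  rw [inv_mul_cancel] at h
  rw [← h]
  show algebraMap k R (CoalgebraStruct.counit (R := k) y) = 0
  have h3 := congrArg (fun t => TensorProduct.lid k A ((CoalgebraStruct.counit (R := k) (A := A)).rTensor A t)) hy
  simp only [Coalgebra.rTensor_counit_comul, map_add, LinearMap.rTensor_tmul, TensorProduct.lid_tmul,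
    hG, one_smul] at h3
  have h4 := congrArg (CoalgebraStruct.counit (R := k)) (right_eq_add.1 h3)
  rw [map_smul, Bialgebra.counit_one, map_zero, smul_eq_mul, mul_one] at h4
  rw [h4, map_zero]

theorem conv3_eq {C : Type u} [CommRing C] [Algebra k C] (f g h : A →ₐ[k] C) :
    Dyn.conv3 k A f g h = ((toConv f : Pt k A C) * toConv g * toConv h).ofConv := by
  refine AlgHom.ext fun a => ?_
  refine Eq.trans ?_ (AlgHom.convMul_apply _ _ a).symm
  show Algebra.TensorProduct.lmul' (S := C) k ((Algebra.TensorProduct.map ((Algebra.TensorProduct.lmul' (S := C) k).comp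
        (Algebra.TensorProduct.map f g)) h) (Algebra.TensorProduct.map (Bialgebra.comulAlgHom k A) (AlgHom.id k A)
        (CoalgebraStruct.comul (R := k) a))) = _
  induction CoalgebraStruct.comul (R := k) a using TensorProduct.induction_on with
  | zero => simp
  | add x y hx hy => simp only [map_add, hx, hy]
  | tmul x y =>
    rw [Algebra.TensorProduct.lift_tmul, Algebra.TensorProduct.map_tmul, Algebra.TensorProduct.map_tmul,
      Algebra.TensorProduct.lmul'_apply_tmul]
    congr 1

theorem exists_point_of_root [IsAlgClosed k] {y : A} (hy : IsAdd k y) {c : k}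
    (hc : ∀ R : Polynomial k, Polynomial.aeval y R = 0 → R.eval c = 0) :
    ∃ g : A →ₐ[k] k, g y = c := by
  let π : Polynomial k →ₐ[k] A := Polynomial.aeval y
  let S : Subalgebra k A := π.range
  have hyS : y ∈ S := ⟨Polynomial.X, Polynomial.aeval_X y⟩
  have hS : H83.HopfPts.IsHopfSub k A S := by
    constructor
    · intro b hb
      obtain ⟨P, rfl⟩ := hb
      let T : Subalgebra k (A ⊗[k] A) := (Algebra.TensorProduct.map S.val S.val).range
      have hsum : y ⊗ₜ[k] (1 : A) + (1 : A) ⊗ₜ[k] y ∈ T :=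
        ⟨(⟨y, hyS⟩ : S) ⊗ₜ[k] (1 : S) + (1 : S) ⊗ₜ[k] (⟨y, hyS⟩ : S), by simp⟩
      have h : Bialgebra.comulAlgHom k A (Polynomial.aeval y P) ∈ T := by
        rw [← Polynomial.aeval_algHom_apply, Bialgebra.comulAlgHom_apply, hy]
        induction P using Polynomial.induction_on' with
        | add p q hp hq => rw [map_add]; exact add_mem hp hq
        | monomial n r =>
          rw [Polynomial.aeval_monomial]
          exact mul_mem (Subalgebra.algebraMap_mem _ _) (pow_mem hsum n)
      obtain ⟨w, hw⟩ := h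
      exact ⟨w, hw⟩
    · intro b hb
      obtain ⟨P, rfl⟩ := hb
      have hS' : HopfAlgebra.antipodeAlgHom k A y = -y := by
        have h := twisted_inv_apply (R := A) (y := y) (G := 1) hy Bialgebra.counit_one (toConv (AlgHom.id k A))
        rw [map_one, one_mul] at h
        exact eq_neg_of_add_eq_zero_left h
      refine ⟨P.comp (-Polynomial.X), ?_⟩
      show Polynomial.aeval y (P.comp (-Polynomial.X)) = HopfAlgebra.antipodeAlgHom k A (Polynomial.aeval y P)
      rw [Polynomial.aeval_comp, map_neg, Polynomial.aeval_X, ← Polynomial.aeval_algHom_apply, hS']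
  let g0 : S →ₐ[k] k := AlgHom.liftOfSurjective π.rangeRestrict π.rangeRestrict_surjective (Polynomial.aeval c)
    fun P hP => by
      show Polynomial.aeval c P = 0
      rw [Polynomial.coe_aeval_eq_eval]
      exact hc P (congrArg Subtype.val (RingHom.mem_ker.1 hP))
  obtain ⟨g, hg⟩ := H83.HopfPts.exists_extension hS g0
  refine ⟨g, (hg ⟨y, hyS⟩).trans ?_⟩
  have h := AlgHom.liftOfSurjective_apply π.rangeRestrict π.rangeRestrict_surjective (Polynomial.aeval c)
    (fun P hP => by
      show Polynomial.aeval c P = 0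
      rw [Polynomial.coe_aeval_eq_eval]
      exact hc P (congrArg Subtype.val (RingHom.mem_ker.1 hP))) Polynomial.X
  rw [Polynomial.aeval_X] at h
  rw [show (⟨y, hyS⟩ : S) = π.rangeRestrict Polynomial.X from Subtype.ext (Polynomial.aeval_X y).symm]
  exact h

theorem exists_add_ne_zero (hU : HopfRep.IsUnipotent k A) (h : ∃ a : A, a ≠ algebraMap k A (CoalgebraStruct.counit (R := k) a)) :
    ∃ v : A, IsAdd k v ∧ v ≠ 0 := by
  classical
  open Groth.Agent.H66.Unip in
  obtain ⟨a, ha⟩ := h
  have hex : ∃ n, ∃ v ∈ Unip.fil k A A n, v ≠ algebraMap k A (CoalgebraStruct.counit (R := k) v) :=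
    (Unip.mem_fil_exists hU a).imp fun n hn => ⟨a, hn, ha⟩
  obtain ⟨v, hv, hne⟩ := Nat.find_spec hex
  obtain ⟨n, hn⟩ : ∃ n, Nat.find hex = n + 1 := by
    rcases hN : Nat.find hex with _ | n
    · rw [hN, Unip.fil_zero, Submodule.mem_bot] at hv
      exact absurd (by rw [hv, map_zero, map_zero]) hne
    · exact ⟨n, rfl⟩
  rw [hn] at hv
  obtain ⟨z, hz⟩ := Unip.mem_fil_succ_iff_coact.1 hv
  have hmin : ∀ x ∈ Unip.fil k A A n, x = algebraMap k A (CoalgebraStruct.counit (R := k) x) := fun x hx => by
    by_contra hne'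
    exact Nat.find_min hex (hn ▸ Nat.lt_succ_self n) ⟨x, hx, hne'⟩
  obtain ⟨w, hw⟩ : ∃ w : A, (Unip.fil k A A n).subtype.rTensor A z = (1 : A) ⊗ₜ[k] w := by
    clear hz
    induction z using TensorProduct.induction_on with
    | zero => exact ⟨0, by simp⟩
    | add p q hp hq =>
      obtain ⟨w, hw⟩ := hp; obtain ⟨w', hw'⟩ := hq
      exact ⟨w + w', by rw [map_add, hw, hw', TensorProduct.tmul_add]⟩
    | tmul p q =>
      refine ⟨CoalgebraStruct.counit (R := k) (p : A) • q, ?_⟩
      rw [LinearMap.rTensor_tmul, Submodule.subtype_apply]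
      conv_lhs => rw [hmin p p.2, Algebra.algebraMap_eq_smul_one, TensorProduct.smul_tmul]
  rw [hw] at hz
  have hz' : CoalgebraStruct.comul (R := k) v = v ⊗ₜ[k] (1 : A) + (1 : A) ⊗ₜ[k] w := eq_add_of_sub_eq' hz.symm
  have hwv : w = v - algebraMap k A (CoalgebraStruct.counit (R := k) v) := by
    have h2 := congrArg (fun t => TensorProduct.lid k A ((CoalgebraStruct.counit (R := k) (A := A)).rTensor A t)) hz'
    simp only [Coalgebra.rTensor_counit_comul, map_add, LinearMap.rTensor_tmul, TensorProduct.lid_tmul,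
      Bialgebra.counit_one, one_smul, ← Algebra.algebraMap_eq_smul_one] at h2
    rw [eq_sub_iff_add_eq']
    exact h2.symm
  refine ⟨w, ?_, fun h0 => hne (sub_eq_zero.1 (hwv ▸ h0))⟩
  show CoalgebraStruct.comul (R := k) w = w ⊗ₜ[k] (1 : A) + (1 : A) ⊗ₜ[k] w
  conv_lhs => rw [hwv, map_sub, hz', Bialgebra.comul_algebraMap, Algebra.TensorProduct.algebraMap_apply]
  conv_rhs => arg 1; rw [hwv, TensorProduct.sub_tmul]
  abel

section Twist

variable {M : Type u} [CommGroup M]

local notation "kM" => MonoidAlgebra k M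

/-- Lifting an additive function on the kernel to twisted additive functions killed by a section. -/
theorem exists_twisted_family (j : MonoidAlgebra k M →ₐc[k] A) (r : A →ₐc[k] MonoidAlgebra k M)
    (hr : r.comp j = BialgHom.id k (MonoidAlgebra k M)) (J : Ideal A) [J.IsHopfIdeal k] (hJ : J = Section.augIdeal j)
    {v : A ⧸ J} (hv : IsAdd k v) :
    ∃ c : M →₀ A, (∀ g, CoalgebraStruct.comul (R := k) (c g) =
        c g ⊗ₜ[k] (1 : A) + j (MonoidAlgebra.single g 1) ⊗ₜ[k] c g) ∧
      (∀ g, r (c g) = 0) ∧ ∑ g ∈ c.support, Ideal.Quotient.mk J (c g) = v := by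
  classical
  have hrj : ∀ b, r (j b) = b := fun b => congrArg (fun f : kM →ₐc[k] kM => f b) hr
  let qJ : A →ₐc[k] A ⧸ J := Bialgebra.Quotient.mkBialgHom (R := k) J
  let ρ : A →ₐc[k] A := j.comp r
  let P : Pt k A A := toConv (AlgHom.id k A) * (toConv (ρ : A →ₐ[k] A))⁻¹
  have hjid : ∀ {R : Type u} [CommRing R] [Algebra k R] (F : Pt k A R), pre j F = 1 → ∀ a ∈ J, F.ofConv a = 0 := by
    intro R _ _ F hF
    have : J ≤ RingHom.ker F.ofConv := by
      rw [hJ]
      refine Ideal.map_le_iff_le_comap.2 fun b hb => ?_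
      show (pre j F).ofConv b = 0
      rw [hF]
      show algebraMap k R (CoalgebraStruct.counit (R := k) b) = 0
      rw [show CoalgebraStruct.counit (R := k) b = 0 from hb, map_zero]
    exact fun a ha => this ha
  have hPj : pre j P = 1 := by
    rw [map_mul, pre_inv]
    have h2 : pre j (toConv (ρ : A →ₐ[k] A) : Pt k A A) = toConv (j : kM →ₐ[k] A) := by
      apply WithConv.ofConv_injective
      exact AlgHom.ext fun b => congrArg j (hrj b)
    rw [h2]
    exact mul_inv_cancel _
  let p : Pt k (A ⧸ J) A := toConv (Ideal.Quotient.liftₐ J P.ofConv (hjid P hPj))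
  have hp : pre qJ p = P := WithConv.ofConv_injective (AlgHom.ext fun a => rfl)
  let g1 : A →ₐ[k] A ⊗[k] A := Algebra.TensorProduct.includeLeft
  let g2 : A →ₐ[k] A ⊗[k] A := Algebra.TensorProduct.includeRight
  let ι : kM ⊗[k] A →ₐ[k] A ⊗[k] A := Algebra.TensorProduct.map (j : kM →ₐ[k] A) (AlgHom.id k A)
  let a₀ : Pt k A (kM ⊗[k] A) := toConv ((Algebra.TensorProduct.includeLeft (R := k) (S := k) (A := MonoidAlgebra k M)
    (B := A)).comp (r : A →ₐ[k] MonoidAlgebra k M))
  let iR : A →ₐ[k] kM ⊗[k] A := Algebra.TensorProduct.includeRight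
  let X : Pt k A (kM ⊗[k] A) := a₀ * post (R' := kM ⊗[k] A) iR P * a₀⁻¹
  have hXj : pre j X = 1 := by
    rw [map_mul, map_mul, pre_inv]
    have h2 : pre j (post (R' := kM ⊗[k] A) iR P) = 1 := by
      show post (R' := kM ⊗[k] A) iR (pre j P) = 1
      rw [hPj, map_one]
    rw [h2, mul_one, mul_inv_cancel]
  let X0 : Pt k (A ⧸ J) (kM ⊗[k] A) := toConv (Ideal.Quotient.liftₐ J X.ofConv (hjid X hXj))
  have hX0 : pre qJ X0 = X := WithConv.ofConv_injective (AlgHom.ext fun a => rfl)
  have hΔP : post (Bialgebra.comulAlgHom k A) P = post (R' := A ⊗[k] A) g1 P * post (R' := A ⊗[k] A) ι X := by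
    have hid : post (Bialgebra.comulAlgHom k A) (toConv (AlgHom.id k A)) = toConv g1 * toConv g2 := by
      refine Eq.trans ?_ (comul_eq_mul A)
      exact WithConv.ofConv_injective (AlgHom.ext fun a => rfl)
    have hρ : post (Bialgebra.comulAlgHom k A) (toConv (ρ : A →ₐ[k] A)) =
        post (R' := A ⊗[k] A) g1 (toConv (ρ : A →ₐ[k] A)) * post (R' := A ⊗[k] A) g2 (toConv (ρ : A →ₐ[k] A)) := by
      have h := congrArg (pre ρ) (comul_eq_mul (k := k) A)
      rw [map_mul] at h
      exact h
    have ha₀ : post (R' := A ⊗[k] A) ι a₀ = post (R' := A ⊗[k] A) g1 (toConv (ρ : A →ₐ[k] A)) := by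
      apply WithConv.ofConv_injective
      refine AlgHom.ext fun a => ?_
      show ι ((r : A →ₐ[k] kM) a ⊗ₜ[k] (1 : A)) = g1 (j (r a))
      simp [ι, g1]
    have hiR : post (R' := A ⊗[k] A) ι (post (R' := kM ⊗[k] A) iR P) = post (R' := A ⊗[k] A) g2 P := by
      apply WithConv.ofConv_injective
      refine AlgHom.ext fun a => ?_
      show ι ((1 : kM) ⊗ₜ[k] P.ofConv a) = g2 (P.ofConv a)
      simp [ι, g2]
    simp only [X, map_mul, post_inv, ha₀, hiR]
    simp only [P, map_mul, post_inv, hid, hρ]
    have h1 : post (R' := A ⊗[k] A) g1 (toConv (AlgHom.id k A)) = toConv g1 := rfl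
    have h2 : post (R' := A ⊗[k] A) g2 (toConv (AlgHom.id k A)) = toConv g2 := rfl
    rw [h1, h2]
    group
  obtain ⟨a, rfl⟩ := Ideal.Quotient.mk_surjective v
  set Y : A := P.ofConv a with hY
  have hΔY : CoalgebraStruct.comul (R := k) Y = Y ⊗ₜ[k] (1 : A) + ι (X.ofConv a) := by
    have h := congrArg (fun F : Pt k A (A ⊗[k] A) => F.ofConv a) hΔP
    refine h.trans ?_
    have h2 : post (R' := A ⊗[k] A) g1 P * post (R' := A ⊗[k] A) ι X =
        pre qJ (post (R' := A ⊗[k] A) g1 p * post (R' := A ⊗[k] A) ι X0) := by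
      rw [map_mul (pre qJ), ← hp, ← hX0]; rfl
    show (post (R' := A ⊗[k] A) g1 P * post (R' := A ⊗[k] A) ι X).ofConv a = _
    rw [h2, pre_apply]
    refine (twisted_mul_apply (y := qJ a) (G := 1) hv _ _).trans ?_
    rw [map_one, one_mul]
    rfl
  let bM := MonoidAlgebra.basis M k
  let c : M →₀ A := TensorProduct.equivFinsuppOfBasisLeft bM (X.ofConv a)
  have hXc : X.ofConv a = c.sum fun g x => bM g ⊗ₜ[k] x := by
    conv_lhs => rw [← (TensorProduct.equivFinsuppOfBasisLeft bM (N := A)).symm_apply_apply (X.ofConv a)]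
    rw [TensorProduct.equivFinsuppOfBasisLeft_symm_apply]
  have hΔY' : CoalgebraStruct.comul (R := k) Y =
      Y ⊗ₜ[k] (1 : A) + ∑ g ∈ c.support, j (MonoidAlgebra.single g 1) ⊗ₜ[k] c g := by
    rw [hΔY, hXc, Finsupp.sum, map_sum]
    refine congrArg (Y ⊗ₜ[k] (1 : A) + ·) (Finset.sum_congr rfl fun g _ => ?_)
    simp [ι, bM]
  have hεY : CoalgebraStruct.counit (R := k) Y = 0 := by
    have h : post (Bialgebra.counitAlgHom k A) P = toConv (Bialgebra.counitAlgHom k A) := by
      rw [map_mul, post_inv]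
      have h2 : post (Bialgebra.counitAlgHom k A) (toConv (ρ : A →ₐ[k] A)) = 1 :=
        WithConv.ofConv_injective (AlgHom.ext fun a => CoalgHomClass.counit_comp_apply ρ a)
      rw [h2, inv_one, mul_one]
      rfl
    refine (congrArg (fun F : Pt k A k => F.ofConv a) h).trans ?_
    exact (CoalgHomClass.counit_comp_apply qJ a).symm.trans (counit_add_fun hv)
  have hqY : qJ Y = qJ a := by
    have h : post (qJ : A →ₐ[k] A ⧸ J) P = toConv (qJ : A →ₐ[k] A ⧸ J) := by
      rw [map_mul, post_inv]
      have h2 : post (qJ : A →ₐ[k] A ⧸ J) (toConv (ρ : A →ₐ[k] A)) = 1 := by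
        apply WithConv.ofConv_injective
        refine AlgHom.ext fun a => ?_
        show qJ (j (r a)) = algebraMap k (A ⧸ J) (CoalgebraStruct.counit (R := k) a)
        rw [← CoalgHomClass.counit_comp_apply r a, ← AlgHom.commutes (Ideal.Quotient.mkₐ k J)]
        refine Ideal.Quotient.eq.2 ?_
        rw [hJ, show algebraMap k A (CoalgebraStruct.counit (R := k) (r a)) =
          (j : kM →ₐ[k] A) (algebraMap k kM (CoalgebraStruct.counit (R := k) (r a))) from (AlgHom.commutes _ _).symm,
          show j (r a) = (j : kM →ₐ[k] A) (r a) from rfl, ← map_sub]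
        refine Ideal.mem_map_of_mem _ ?_
        show Bialgebra.counitAlgHom k kM _ = 0
        rw [map_sub, AlgHom.commutes]
        exact sub_self _
      rw [h2, inv_one, mul_one]
      rfl
    exact congrArg (fun F : Pt k A (A ⧸ J) => F.ofConv a) h
  have hYc : Y = ∑ g ∈ c.support, c g := by
    have h2 := congrArg (fun t => TensorProduct.lid k A ((CoalgebraStruct.counit (R := k) (A := A)).rTensor A t)) hΔY'
    simp only [Coalgebra.rTensor_counit_comul, map_add, map_sum, LinearMap.rTensor_tmul, TensorProduct.lid_tmul,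
      one_smul, hεY, zero_smul, zero_add, CoalgHomClass.counit_comp_apply,
      (MonoidAlgebra.isGroupLikeElem_single_one (R := k) _).counit_eq_one] at h2
    exact h2
  have hrY : r Y = 0 := by
    have h : post (r : A →ₐ[k] kM) P = 1 := by
      rw [map_mul, post_inv]
      have h2 : post (r : A →ₐ[k] kM) (toConv (ρ : A →ₐ[k] A)) = toConv (r : A →ₐ[k] kM) :=
        WithConv.ofConv_injective (AlgHom.ext fun a => hrj (r a))
      rw [h2]
      exact mul_inv_cancel _
    refine (congrArg (fun F : Pt k A kM => F.ofConv a) h).trans ?_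
    show algebraMap k kM (CoalgebraStruct.counit (R := k) a) = 0
    rw [← CoalgHomClass.counit_comp_apply qJ a, show qJ a = Ideal.Quotient.mk J a from rfl, counit_add_fun hv, map_zero]
  obtain ⟨l, hl⟩ := (j : kM →ₐ[k] A).toLinearMap.exists_leftInverse_of_injective
    (LinearMap.ker_eq_bot.2 (Function.LeftInverse.injective (g := r) hrj))
  have hlj : ∀ g h : M, bM.coord h (l (j (MonoidAlgebra.single g 1))) = if g = h then 1 else 0 := fun g h => by
    rw [show l (j (MonoidAlgebra.single g 1)) = MonoidAlgebra.single g 1 from LinearMap.congr_fun hl _,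
      ← MonoidAlgebra.basis_apply, Module.Basis.coord_apply, Module.Basis.repr_self, Finsupp.single_apply]
  have hsum : ∀ (h : M) (V : Type u) [AddCommGroup V] [Module k V] (F : M → V), (c h = 0 → F h = 0) →
      ∑ g ∈ c.support, (if g = h then (1 : k) else 0) • F g = F h := by
    intro h V _ _ F hF
    rw [Finset.sum_eq_single h (fun i _ hi => by simp [hi])
      (fun hn => by simp [hF (Finsupp.notMem_support_iff.1 hn)])]
    simp
  refine ⟨c, fun h => ?_, fun h => ?_, ?_⟩
  · have hco := Coalgebra.coassoc_apply (R := k) Y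
    rw [hΔY'] at hco
    simp only [map_add, map_sum, LinearMap.rTensor_tmul, LinearMap.lTensor_tmul, Bialgebra.comul_one,
      Algebra.TensorProduct.one_def, hΔY', TensorProduct.add_tmul, TensorProduct.sum_tmul,
      ((MonoidAlgebra.isGroupLikeElem_single_one (R := k) _).map j).comul_eq_tmul_self,
      TensorProduct.assoc_tmul, add_assoc] at hco
    have hco' := add_left_cancel hco
    let L : A ⊗[k] (A ⊗[k] A) →ₗ[k] A ⊗[k] A :=
      (TensorProduct.lid k (A ⊗[k] A)).toLinearMap ∘ₗ ((bM.coord h) ∘ₗ l).rTensor (A ⊗[k] A)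
    have h2 := congrArg L hco'
    simp only [L, map_add, map_sum, LinearMap.comp_apply, LinearEquiv.coe_coe, LinearMap.rTensor_tmul,
      TensorProduct.lid_tmul, hlj] at h2
    rw [hsum h _ (fun g => c g ⊗ₜ[k] (1 : A)) (fun h0 => by simp [h0]),
      hsum h _ (fun g => j (MonoidAlgebra.single g 1) ⊗ₜ[k] c g) (fun h0 => by simp [h0]),
      hsum h _ (fun g => CoalgebraStruct.comul (R := k) (c g)) (fun h0 => by simp [h0])] at h2
    exact h2.symm
  · have h1 := CoalgHomClass.map_comp_comul_apply r Y
    rw [hrY, map_zero, hΔY', map_add, map_sum, TensorProduct.map_tmul] at h1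
    simp only [TensorProduct.map_tmul] at h1
    have h2 := congrArg (fun t => TensorProduct.lid k kM ((bM.coord h).rTensor kM t)) h1
    simp only [map_add, map_sum, map_zero, LinearMap.rTensor_tmul, TensorProduct.lid_tmul] at h2
    erw [hrY] at h2
    rw [map_zero, zero_smul, zero_add] at h2
    rw [← h2]
    refine (hsum h _ (fun g => r (c g)) (fun h0 => by simp [h0])).symm.trans (Finset.sum_congr rfl fun g _ => ?_)
    erw [hrj]
    rw [← MonoidAlgebra.basis_apply, Module.Basis.coord_apply, Module.Basis.repr_self, Finsupp.single_apply]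
    rfl
  · rw [← map_sum, ← hYc]
    exact hqY

end Twist

end

end Groth.Agent.H66.Conj
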